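import Cfsg.Agent.Lib.ThreeTransp.M22Y332.Relations
import Cfsg.Agent.Lib.ThreeTransp.M22Order
import Cfsg.Agent.Lib.Fi22P.ThreeT

/-!
# Groups of type `M(22)` are the presented Fischer group `Fi₂₂`
-/

set_option autoImplicit false
set_option linter.unusedSectionVars false

namespace CfsgLib.M22

open CfsgLib.ThreeTransp CfsgLib.SporMisc
open CfsgLib.Y332 (isEdge edges prd prd_cons prd_nil)
open Cfsg.Spor

variable {G : Type*} [Group G] {D : Set G} {gen : ℕ → G}

theorem coxLabel_fi : ∀ x y : Fi22.Gen, coxLabel Fi22.edges x y =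
    if Fi22P.genIx x = Fi22P.genIx y then 1
    else if isEdge edges (Fi22P.genIx x) (Fi22P.genIx y) = true then 3 else 2 := by
  intro x y
  cases x <;> cases y <;> rfl

variable [Finite G] (S : Setup D) {F : Type} [Field F] [Fintype F] (hF : Fintype.card F = 2 ^ 2)
  (hM : ∀ a ∈ D, Nonempty (Model D a F))
include S hF hM

theorem Config.rels (C : Config D gen) :
    ∀ r ∈ coxRelators Fi22.edges ∪ {r | r ∈ Fi22.extra},
      FreeGroup.lift (fun x => gen (Fi22P.genIx x)) r = 1 := by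
  intro r hr
  have lt : ∀ x, Fi22P.genIx x < 9 := Fi22P.fi_ok.ix_lt
  rcases hr with ⟨x, -, y, -, rfl⟩ | hr
  · rw [map_pow, map_mul, FreeGroup.lift_apply_of, FreeGroup.lift_apply_of, coxLabel_fi]
    split
    · next h => rw [h, pow_one, S.sqd (C.mem _ (lt y))]
    · split
      · next h =>
        exact pow_three_eq_one (S.sqd (C.mem _ (lt x))) (S.sqd (C.mem _ (lt y))) (C.cox.braid _ _ (lt x) (lt y) h)
      · next h =>
        rw [(C.comm (lt x) (lt y) (Bool.eq_false_iff.2 h)).mul_pow, pow_two, pow_two, S.sqd (C.mem _ (lt x)),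
          S.sqd (C.mem _ (lt y)), mul_one]
  · simp only [Fi22.extra, List.mem_cons, List.not_mem_nil, or_false, Set.mem_ofPred_eq] at hr
    rcases hr with rfl | rfl | rfl <;>
      simp only [map_mul, map_pow, FreeGroup.lift_apply_of, Fi22P.genIx]
    · simpa only [Y332.spW, prd_cons, prd_nil, mul_one, ← mul_assoc] using C.relSpider S hF hM
    · simpa only [Y332.w7, prd_cons, prd_nil, mul_one, ← mul_assoc] using C.relW7 S hF hM
    · simpa only [Y332.v7, prd_cons, prd_nil, mul_one, ← mul_assoc] using C.relV7 S hF hM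

omit hF hM in
/-- A group of type `M(22)` is the presented group `Fi₂₂`, its class the transpositions, the nine generators
members. -/
theorem exists_fi22_iso_gen : ∃ e : Cfsg.Spor.Fi22 ≃* G, e '' Fi22P.transp = D ∧
    ∀ k, k < 9 → e (Fi22P.fiGen k) ∈ D := by
  obtain ⟨F, _, _, hF, hM⟩ := S.exists_models
  obtain ⟨a, ha, b, hb, hab⟩ := S.exists_noncommuting
  obtain ⟨gen, C, -⟩ := exists_config S hF hM ha hb hab
  have := Fi22P.simple
  have := Fi22P.card_fi.1
  let φ : Cfsg.Spor.Fi22 →* G := PresentedGroup.toGroup (f := fun x => gen (Fi22P.genIx x)) (C.rels S hF hM)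
  have hφa : φ Fi22P.fA = gen 0 := by
    show φ (PresCert.act Fi22P.fiGen [0]) = _
    rw [PresCert.act_cons, PresCert.act_nil, one_mul]
    exact PresentedGroup.toGroup.of (C.rels S hF hM)
  have hinj : Function.Injective φ := by
    rw [← MonoidHom.ker_eq_bot_iff]
    refine ((MonoidHom.normal_ker φ).eq_bot_or_eq_top).resolve_right fun h => ?_
    have h' : φ Fi22P.fA = 1 := (MonoidHom.mem_ker).1 (h ▸ Subgroup.mem_top _)
    rw [hφa] at h'
    exact S.tt.ne_one _ (C.mem 0 (by decide)) h'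
  have hcard : Nat.card Cfsg.Spor.Fi22 = Nat.card G := by
    rw [Fi22P.card_fi.2, card_eq S hF hM]
    norm_num
  have hbij : Function.Bijective φ := (Nat.bijective_iff_injective_and_card φ).2 ⟨hinj, hcard⟩
  refine ⟨MulEquiv.ofBijective φ hbij, ?_, fun k hk => ?_⟩
  swap
  · show φ (PresentedGroup.of (Fi22P.fiData.at'.getD k Fi22P.fiData.dflt)) ∈ D
    rw [PresentedGroup.toGroup.of]
    exact C.mem _ (Fi22P.fi_ok.ix_lt _)
  ext x
  constructor
  · rintro ⟨t, ht, rfl⟩
    obtain ⟨c, rfl⟩ := isConj_iff.1 ht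
    show φ (c * Fi22P.fA * c⁻¹) ∈ D
    rw [map_mul, map_mul, map_inv, hφa]
    exact S.tt.conj _ _ (C.mem 0 (by decide))
  · intro hx
    obtain ⟨g, rfl⟩ := S.cls (C.mem 0 (by decide)) hx
    obtain ⟨c, rfl⟩ := hbij.2 g
    refine ⟨c * Fi22P.fA * c⁻¹, isConj_iff.2 ⟨c, rfl⟩, ?_⟩
    show φ (c * Fi22P.fA * c⁻¹) = _
    rw [map_mul, map_mul, map_inv, hφa]

omit hF hM in
/-- A group of type `M(22)` is the presented group `Fi₂₂`, its class the transpositions. -/
theorem exists_fi22_iso : ∃ e : Cfsg.Spor.Fi22 ≃* G, e '' Fi22P.transp = D :=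
  let ⟨e, h, _⟩ := exists_fi22_iso_gen S
  ⟨e, h⟩

end CfsgLib.M22
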