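import Cfsg.Agent.Lib.ThreeTransp.M22Y332.Near

/-!
# Groups of type `M(22)`: a base and the six of its members commuting with a member off it

In a base containing `a` the members commuting with a member `b` not commuting with `a` are six, no three
collinear; a further common neighbour of `a`, `b` off the base commutes with none or two of them.
-/

set_option autoImplicit false
set_option linter.unusedSectionVars false

namespace CfsgLib.M22

open CfsgLib.ThreeTransp CfsgLib.SporMisc CfsgLib.FischerPair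
open CfsgLib.U6 (IsPt IsPlane)
open CfsgLib.PSUAut (Isot)

variable {G : Type*} [Group G]

/-- The members of `B` other than `a` commuting with `b`. -/
def six (D : Set G) (a b : G) (B : Set G) : Set G := B ∩ common D a b

/-- A base through `a` with a member off it not commuting with `a`, seeing some member of the base. -/
structure Six (D : Set G) (a b : G) (B : Set G) : Prop where
  ha : a ∈ D
  hb : b ∈ D
  hab : ¬ Commute a b
  base : IsBase D B
  haB : a ∈ B
  ne : (six D a b B).Nonempty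

variable {D : Set G}

theorem Six.notMem {a b : G} {B : Set G} (T : Six D a b B) : b ∉ B :=
  fun h => T.hab (T.base.comm a T.haB b h)

theorem Six.mem_link {a b : G} {B : Set G} (T : Six D a b B) {e : G} (he : e ∈ B) (hne : e ≠ a) :
    e ∈ link D a :=
  ⟨T.base.sub he, hne, T.base.comm a T.haB e he⟩

theorem Six.mem_six {a b : G} {B : Set G} (T : Six D a b B) {e : G} (he : e ∈ B) (hc : Commute b e) :
    e ∈ six D a b B :=
  ⟨he, T.mem_link he fun h => T.hab (h ▸ hc.symm), T.base.sub he, fun h => T.notMem (h ▸ he), hc⟩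

variable [Finite G] (S : Setup D) {F : Type} [Field F] [Fintype F] (hF : Fintype.card F = 2 ^ 2)
  (hM : ∀ a ∈ D, Nonempty (Model D a F))
include S hF hM

theorem Six.ncard {a b : G} {B : Set G} (T : Six D a b B) : (six D a b B).ncard = 6 := by
  obtain ⟨e, he⟩ := T.ne
  rw [← T.base.six S hF hM T.hb T.notMem he.1 he.2.2.2.2]
  congr 1
  ext f
  exact ⟨fun h => ⟨h.1, h.2.2.2.2⟩, fun h => T.mem_six h.1 h.2⟩

/-- No three of the six are collinear. -/
theorem Six.noncollinear {a b p q r : G} {B : Set G} (T : Six D a b B) (A : Model D a F)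
    (hp : p ∈ six D a b B) (hq : q ∈ six D a b B) (hr : r ∈ six D a b B) (npq : p ≠ q) (npr : p ≠ r)
    (nqr : q ≠ r) {P Q R : Fin 6 → F} (hP : IsPt (A.img hp.2.1) P) (hQ : IsPt (A.img hq.2.1) Q)
    (hR : IsPt (A.img hr.2.1) R) : R ∉ Submodule.span F {P, Q} :=
  not_collinear S hF hM T.ha T.hb T.hab hp.2 hq.2 hr.2 (T.base.comm p hp.1 q hq.1) (T.base.comm p hp.1 r hr.1)
    (T.base.comm q hq.1 r hr.1) npq npr nqr A hP hQ hR

omit hM in
/-- Three members of a base through `a` in general position make a plane. -/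
theorem Six.isPlane {a b p q r : G} {B : Set G} (T : Six D a b B) (A : Model D a F)
    (lp : p ∈ link D a) (lq : q ∈ link D a) (lr : r ∈ link D a) (hp : p ∈ B) (hq : q ∈ B) (hr : r ∈ B)
    (npq : p ≠ q) {P Q R : Fin 6 → F} (hP : IsPt (A.img lp) P) (hQ : IsPt (A.img lq) Q)
    (hR : IsPt (A.img lr) R) (hn : R ∉ Submodule.span F {P, Q}) : IsPlane P Q R := by
  have k : ∀ {e f : G} (le : e ∈ link D a) (lf : f ∈ link D a) {v w : Fin 6 → F}, e ∈ B → f ∈ B →
      IsPt (A.img le) v → IsPt (A.img lf) w → Cfsg.hermForm 6 F 2 v w = 0 := fun le lf _ _ he hf hv hw =>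
    (A.comm_iff S hF T.ha le lf hv hw).1 (T.base.comm _ he _ hf)
  exact ⟨hP.1.2, hQ.1.2, hR.1.2, k lp lq hp hq hP hQ, k lp lr hp hr hP hR, k lq lr hq hr hQ hR, hP.1.1,
    A.notMem S hF T.ha lp lq hP hQ npq, hn⟩

omit hM in
/-- What commutes with three members of the base in general position lies in it. -/
theorem Six.mem_of_plane {a b p q r e : G} {B : Set G} (T : Six D a b B) (A : Model D a F)
    (lp : p ∈ link D a) (lq : q ∈ link D a) (lr : r ∈ link D a) (le : e ∈ link D a) (hp : p ∈ B) (hq : q ∈ B)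
    (hr : r ∈ B) {P Q R : Fin 6 → F} (hP : IsPt (A.img lp) P) (hQ : IsPt (A.img lq) Q)
    (hR : IsPt (A.img lr) R) (hPl : IsPlane P Q R) (cp : Commute e p) (cq : Commute e q) (cr : Commute e r) :
    e ∈ B := by
  obtain ⟨v, hv⟩ := A.exists_pt_of_link S hF T.ha le
  rw [A.base_eq S hF T.ha T.base T.haB lp lq lr hp hq hr hP hQ hR hPl]
  exact Or.inr ⟨le, v, hv, A.mem_plane S hF T.ha lp lq lr le hP hQ hR hPl cp cq cr hv⟩

/-- A member off the base commutes with at most two of the six. -/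
theorem Six.le_two {a b u e e' e'' : G} {B : Set G} (T : Six D a b B) (hu : u ∈ link D a) (huB : u ∉ B)
    (he : e ∈ six D a b B) (he' : e' ∈ six D a b B) (he'' : e'' ∈ six D a b B) (hne : e ≠ e')
    (c : Commute u e) (c' : Commute u e') (c'' : Commute u e'') : e'' = e ∨ e'' = e' := by
  by_contra hcon
  push Not at hcon
  obtain ⟨A⟩ := hM a T.ha
  obtain ⟨P, hP⟩ := A.exists_pt_of_link S hF T.ha he.2.1
  obtain ⟨Q, hQ⟩ := A.exists_pt_of_link S hF T.ha he'.2.1
  obtain ⟨R, hR⟩ := A.exists_pt_of_link S hF T.ha he''.2.1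
  exact huB (T.mem_of_plane S hF A he.2.1 he'.2.1 he''.2.1 hu he.1 he'.1 he''.1 hP hQ hR
    (T.isPlane S hF A he.2.1 he'.2.1 he''.2.1 he.1 he'.1 he''.1 hne hP hQ hR
      (T.noncollinear S hF hM A he he' he'' hne hcon.1.symm hcon.2.symm hP hQ hR)) c c' c'')

/-- The members off the base seeing two given ones of the six. -/
theorem Six.eight {a b e e' : G} {B : Set G} (T : Six D a b B) (he : e ∈ six D a b B)
    (he' : e' ∈ six D a b B) (hne : e ≠ e') :
    ((link D a ∩ link D b ∩ link D e ∩ link D e') \ B).ncard = 8 := by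
  classical
  have l' : e' ∈ link D a ∩ link D b ∩ link D e :=
    ⟨⟨he'.2.1, he'.2.2⟩, he'.2.1.1, hne.symm, T.base.comm e he.1 e' he'.1⟩
  have h12 := link_four_ncard S hF hM T.ha T.hb T.hab he.2.1 he.2.2 l'
  have e4 : (link D a ∩ link D b ∩ link D e ∩ link D e') ∩ B = six D a b B \ {e, e'} := by
    ext f
    constructor
    · rintro ⟨⟨⟨⟨fa, fb⟩, fe⟩, fe'⟩, hf⟩
      exact ⟨⟨hf, fa, fb⟩, by rintro (rfl | rfl); exacts [fe.2.1 rfl, fe'.2.1 rfl]⟩
    · rintro ⟨⟨hf, fa, fb⟩, hn⟩
      exact ⟨⟨⟨⟨fa, fb⟩, fa.1, fun h => hn (Or.inl h), T.base.comm e he.1 f hf⟩,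
        fa.1, fun h => hn (Or.inr h), T.base.comm e' he'.1 f hf⟩, hf⟩
  have h4 : ((link D a ∩ link D b ∩ link D e ∩ link D e') ∩ B).ncard = 4 := by
    rw [e4, Set.ncard_sdiff (Set.insert_subset he (Set.singleton_subset_iff.2 he')), T.ncard S hF hM,
      Set.ncard_pair hne]
  have := Set.ncard_inter_add_ncard_sdiff_eq_ncard (link D a ∩ link D b ∩ link D e ∩ link D e') B (Set.toFinite _)
  omega

/-- A member off the base seeing one of the six sees another. -/
theorem Six.second {a b u e : G} {B : Set G} (T : Six D a b B) (hu : u ∈ common D a b) (huB : u ∉ B)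
    (he : e ∈ six D a b B) (c : Commute u e) : ∃ e' ∈ six D a b B, e' ≠ e ∧ Commute u e' := by
  classical
  set W := (link D a ∩ link D b ∩ link D e) \ B with hW
  set W' := {w | w ∈ W ∧ ∃ e' ∈ six D a b B, e' ≠ e ∧ Commute w e'} with hW'
  have h5 : ((link D a ∩ link D b ∩ link D e) ∩ B).ncard = 5 := by
    have e5 : (link D a ∩ link D b ∩ link D e) ∩ B = six D a b B \ {e} := by
      ext f
      constructor
      · rintro ⟨⟨⟨fa, fb⟩, fe⟩, hf⟩
        exact ⟨⟨hf, fa, fb⟩, fe.2.1⟩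
      · rintro ⟨⟨hf, fa, fb⟩, hn⟩
        exact ⟨⟨⟨fa, fb⟩, fa.1, hn, T.base.comm e he.1 f hf⟩, hf⟩
    have := Set.ncard_sdiff_singleton_add_one he (Set.toFinite _)
    rw [T.ncard S hF hM] at this
    rw [e5]
    omega
  have h45 := link_three_ncard S hF hM T.ha T.hb T.hab he.2.1 he.2.2
  have hW40 : W.ncard = 40 := by
    have := Set.ncard_inter_add_ncard_sdiff_eq_ncard (link D a ∩ link D b ∩ link D e) B (Set.toFinite _)
    rw [hW]
    omega
  have hc := count_pairs (s := W') (t := six D a b B \ {e}) (fun w f => Commute w f) (m := 1) (n := 8)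
    (fun w hw => by
      obtain ⟨e', he', hne, hwe'⟩ := hw.2
      rw [Set.ncard_eq_one]
      refine ⟨e', Set.ext fun f => ⟨?_, ?_⟩⟩
      · rintro ⟨⟨hf, hfe⟩, hwf⟩
        rcases T.le_two S hF hM hw.1.1.1.1 hw.1.2 he he' hf hne.symm hw.1.1.2.2.2.symm hwe' hwf with h | h
        exacts [absurd h hfe, h]
      · rintro rfl
        exact ⟨⟨he', hne⟩, hwe'⟩)
    (fun f hf => by
      rw [← T.eight S hF hM he hf.1 (Ne.symm hf.2)]
      congr 1
      ext w
      constructor
      · rintro ⟨⟨⟨h3, hwB⟩, -⟩, hwf⟩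
        exact ⟨⟨h3, h3.1.1.1, fun h => hwB (h ▸ hf.1.1), hwf.symm⟩, hwB⟩
      · rintro ⟨⟨h3, h4⟩, hwB⟩
        exact ⟨⟨⟨h3, hwB⟩, f, hf.1, hf.2, h4.2.2.symm⟩, h4.2.2.symm⟩)
  have h5' : (six D a b B \ {e}).ncard = 5 := by
    have := Set.ncard_sdiff_singleton_add_one he (Set.toFinite _)
    rw [T.ncard S hF hM] at this
    omega
  rw [h5'] at hc
  have hWe : W' = W := Set.eq_of_subset_of_ncard_le (fun w hw => hw.1) (by omega) (Set.toFinite _)
  have huW : u ∈ W' := hWe ▸
    ⟨⟨⟨hu.1, hu.2⟩, hu.1.1, fun h => huB (h ▸ he.1), c.symm⟩, huB⟩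
  exact huW.2

/-- A member seeing two given ones of the six. -/
theorem Six.exists_seeing {a b e e' : G} {B : Set G} (T : Six D a b B) (he : e ∈ six D a b B)
    (he' : e' ∈ six D a b B) (hne : e ≠ e') :
    ∃ u ∈ common D a b, u ∉ B ∧ Commute u e ∧ Commute u e' := by
  obtain ⟨u, ⟨⟨h3, h4⟩, huB⟩⟩ : ((link D a ∩ link D b ∩ link D e ∩ link D e') \ B).Nonempty :=
    (Set.ncard_pos (Set.toFinite _)).1 (by rw [T.eight S hF hM he he' hne]; norm_num)
  exact ⟨u, h3.1, huB, h3.2.2.2.symm, h4.2.2.symm⟩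

omit hM in
/-- A six exists at every non-commuting pair. -/
theorem exists_six_base (hM : ∀ a ∈ D, Nonempty (Model D a F)) {a b : G} (ha : a ∈ D) (hb : b ∈ D)
    (hab : ¬ Commute a b) : ∃ B, Six D a b B := by
  obtain ⟨x, hxa, hxb⟩ := exists_common S hF hM ha hb hab
  obtain ⟨B, hB, haB, hxB⟩ : {B | IsBase D B ∧ a ∈ B ∧ x ∈ B}.Nonempty :=
    (Set.ncard_pos (Set.toFinite _)).1 (by rw [bases_two S hF hM ha hxa]; norm_num)
  exact ⟨B, ha, hb, hab, hB, haB, x, hxB, hxa, hxb⟩

end CfsgLib.M22
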