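import Cfsg.Agent.Lib.ThreeTransp.M22Y332.Rewrite
import Cfsg.Agent.Lib.ThreeTransp.M22Y332.CertData
import Mathlib.Algebra.Group.Commute.Defs
import Mathlib.Tactic.Group

/-!
# Identities in groups with the relations of the diagram `Y₃₃₂`

The generators are numbered `a = 0, …, i = 8`; `theta6`, `theta7` are the reflections in the highest roots of
the subdiagrams `{b, c, d, e, f, h}` and `{a, b, c, d, e, f, h}`.
-/

set_option autoImplicit false
set_option maxRecDepth 100000

namespace CfsgLib.Y332

variable {G : Type*} [Group G]

/-- The edges of `Y₃₃₂`. -/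
def edges : List (ℕ × ℕ) := [(0, 1), (1, 2), (2, 3), (3, 4), (3, 7), (4, 5), (5, 6), (7, 8)]

/-- The generators satisfy the Coxeter relations of `Y₃₃₂`. -/
abbrev IsY332 (gen : ℕ → G) : Prop := Sat 9 edges gen

/-- The word of a conjugate of a generator. -/
def refl (x : List ℕ) (g : ℕ) : List ℕ := x ++ g :: x.reverse

/-- A word repeated. -/
def rep : ℕ → List ℕ → List ℕ
  | 0, _ => []
  | k + 1, w => w ++ rep k w

/-- A product of conjugates of one word. -/
def blocks (core : List ℕ) : List (List ℕ) → List ℕ
  | [] => []
  | b :: bs => b ++ core ++ b.reverse ++ blocks core bs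

/-- The conjugator of the highest root reflection of `E₆`. -/
def th6X : List ℕ := [7, 3, 4, 2, 3, 7, 5, 4, 3, 2]
/-- `a b c d e f e d c b a`. -/
def uW : List ℕ := [0, 1, 2, 3, 4, 5, 4, 3, 2, 1, 0]
/-- A reflection of `E₇` orthogonal to those of `a`, `c`, `e`, `h` and `theta7`. -/
def xX : List ℕ := [3, 7, 4, 3]
/-- Another one. -/
def yX : List ℕ := [1, 2, 3, 7, 4, 3, 2, 1]
/-- `a b c d e f h`. -/
def w7 : List ℕ := [0, 1, 2, 3, 4, 5, 7]
/-- `b c d e f g h`. -/
def v7 : List ℕ := [1, 2, 3, 4, 5, 6, 7]
/-- `d c b d e f d h i`. -/
def spW : List ℕ := [3, 2, 1, 3, 4, 5, 3, 7, 8]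
/-- The commutator of a generator with a word. -/
def commW (s : ℕ) (w : List ℕ) : List ℕ := s :: w ++ s :: w.reverse
/-- The cube of `i · theta6`. -/
def core : List ℕ := rep 3 (8 :: refl th6X 1)

/-- The highest root reflection of `E₆`. -/
def theta6 (gen : ℕ → G) : G := prd gen (refl th6X 1)
/-- The highest root reflection of `E₇`. -/
def theta7 (gen : ℕ → G) : G := prd gen uW * theta6 gen * (prd gen uW)⁻¹
/-- An orthogonal reflection. -/
def refX (gen : ℕ → G) : G := prd gen (refl xX 2)
/-- An orthogonal reflection. -/
def refY (gen : ℕ → G) : G := prd gen (refl yX 0)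

variable {gen : ℕ → G} (H : IsY332 gen)

theorem prd_rep (gen : ℕ → G) (k : ℕ) (w : List ℕ) : prd gen (rep k w) = prd gen w ^ k := by
  induction k with
  | zero => rw [rep, prd_nil, pow_zero]
  | succ k ih => rw [rep, prd_append, ih, pow_succ']

include H

theorem prd_refl {x : List ℕ} (hx : ∀ z ∈ x, z < 9) (g : ℕ) :
    prd gen (refl x g) = prd gen x * gen g * (prd gen x)⁻¹ := by
  rw [refl, prd_append, prd_cons, prd_reverse H hx, mul_assoc]

theorem commute_of {s : ℕ} {w : List ℕ} (hs : s < 9) (hw : ∀ z ∈ w, z < 9)
    (h : prd gen (commW s w) = 1) : Commute (gen s) (prd gen w) := by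
  rw [commW, List.cons_append, prd_cons, prd_append, prd_cons, prd_reverse H hw, ← mul_assoc, ← mul_assoc,
    mul_inv_eq_one] at h
  show gen s * prd gen w = prd gen w * gen s
  calc gen s * prd gen w = gen s * prd gen w * gen s * gen s := by rw [mul_assoc _ (gen s), H.sq s hs, mul_one]
    _ = prd gen w * gen s := by rw [h]

theorem prd_blocks {c : List ℕ} (hc : prd gen c = 1) :
    ∀ {bs : List (List ℕ)}, (∀ b ∈ bs, ∀ z ∈ b, z < 9) → prd gen (blocks c bs) = 1
  | [], _ => prd_nil gen
  | b :: bs, h => by
    rw [blocks, prd_append, prd_append, prd_append, hc, mul_one,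
      prd_reverse H (h b List.mem_cons_self), mul_inv_cancel, one_mul,
      prd_blocks hc (fun b' hb' => h b' (List.mem_cons_of_mem _ hb'))]

theorem theta7_eq : theta7 gen = prd gen (refl (uW ++ th6X) 1) := by
  rw [theta7, theta6, prd_refl H (by decide), prd_refl H (by decide), prd_append]
  group

theorem theta7_word : theta7 gen = prd gen (uW ++ refl th6X 1 ++ uW.reverse) := by
  rw [theta7, theta6, prd_append, prd_append, prd_reverse H (by decide)]

/-- The central element of the first `E₇`. -/
theorem w7_central {s : ℕ} (hs : s ∈ [0, 1, 2, 3, 4, 5, 7]) : Commute (gen s) (prd gen w7 ^ 9) := by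
  rw [← prd_rep]
  simp only [List.mem_cons, List.not_mem_nil, or_false] at hs
  rcases hs with rfl | rfl | rfl | rfl | rfl | rfl | rfl
  · exact commute_of H (by decide) (by decide) (checks_sound H (ms := mvW20) (by decide +kernel))
  · exact commute_of H (by decide) (by decide) (checks_sound H (ms := mvW21) (by decide +kernel))
  · exact commute_of H (by decide) (by decide) (checks_sound H (ms := mvW22) (by decide +kernel))
  · exact commute_of H (by decide) (by decide) (checks_sound H (ms := mvW23) (by decide +kernel))
  · exact commute_of H (by decide) (by decide) (checks_sound H (ms := mvW24) (by decide +kernel))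
  · exact commute_of H (by decide) (by decide) (checks_sound H (ms := mvW25) (by decide +kernel))
  · exact commute_of H (by decide) (by decide) (checks_sound H (ms := mvW26) (by decide +kernel))

/-- The central element of the second `E₇`. -/
theorem v7_central {s : ℕ} (hs : s ∈ [1, 2, 3, 4, 5, 6, 7]) : Commute (gen s) (prd gen v7 ^ 9) := by
  rw [← prd_rep]
  simp only [List.mem_cons, List.not_mem_nil, or_false] at hs
  rcases hs with rfl | rfl | rfl | rfl | rfl | rfl | rfl
  · exact commute_of H (by decide) (by decide) (checks_sound H (ms := mvW30) (by decide +kernel))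
  · exact commute_of H (by decide) (by decide) (checks_sound H (ms := mvW31) (by decide +kernel))
  · exact commute_of H (by decide) (by decide) (checks_sound H (ms := mvW32) (by decide +kernel))
  · exact commute_of H (by decide) (by decide) (checks_sound H (ms := mvW33) (by decide +kernel))
  · exact commute_of H (by decide) (by decide) (checks_sound H (ms := mvW34) (by decide +kernel))
  · exact commute_of H (by decide) (by decide) (checks_sound H (ms := mvW35) (by decide +kernel))
  · exact commute_of H (by decide) (by decide) (checks_sound H (ms := mvW36) (by decide +kernel))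

theorem theta7_commute {s : ℕ} (hs : s ∈ [0, 1, 2, 3, 4, 7]) : Commute (gen s) (theta7 gen) := by
  rw [theta7_word H]
  simp only [List.mem_cons, List.not_mem_nil, or_false] at hs
  rcases hs with rfl | rfl | rfl | rfl | rfl | rfl
  · exact commute_of H (by decide) (by decide) (checks_sound H (ms := mvT0) (by decide +kernel))
  · exact commute_of H (by decide) (by decide) (checks_sound H (ms := mvT1) (by decide +kernel))
  · exact commute_of H (by decide) (by decide) (checks_sound H (ms := mvT2) (by decide +kernel))
  · exact commute_of H (by decide) (by decide) (checks_sound H (ms := mvT3) (by decide +kernel))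
  · exact commute_of H (by decide) (by decide) (checks_sound H (ms := mvT4) (by decide +kernel))
  · exact commute_of H (by decide) (by decide) (checks_sound H (ms := mvT5) (by decide +kernel))

/-- The central element as a product of seven orthogonal reflections. -/
theorem w7_decomp : prd gen w7 ^ 9 = gen 0 * gen 2 * gen 4 * gen 7 * theta7 gen * refX gen * refY gen := by
  have h : prd gen (rep 9 w7 ++ ([0, 2, 4, 7] ++ (uW ++ refl th6X 1 ++ uW.reverse) ++ refl xX 2 ++
      refl yX 0).reverse) = 1 := checks_sound H (ms := mvdec0) (by decide +kernel)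
  rw [prd_append, prd_reverse H (by decide), mul_inv_eq_one, prd_rep, prd_append, prd_append, prd_append,
    ← theta7_word H] at h
  rw [h]
  simp only [refX, refY, prd_cons, prd_nil, mul_one, mul_assoc]

theorem refX_commute : Commute (gen 0) (refX gen) :=
  commute_of H (by decide) (by decide) (checks_sound H (ms := mvX0) (by decide +kernel))

theorem refY_commute : Commute (gen 0) (refY gen) :=
  commute_of H (by decide) (by decide) (checks_sound H (ms := mvY0) (by decide +kernel))

theorem refY_commute_d : Commute (gen 3) (refY gen) :=
  commute_of H (by decide) (by decide) (checks_sound H (ms := mvY1) (by decide +kernel))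

theorem refX_refY : Commute (refX gen) (refY gen) := by
  have h : prd gen (refl xX 2 ++ refl yX 0 ++ (refl xX 2).reverse ++ (refl yX 0).reverse) = 1 :=
    checks_sound H (ms := mvXY0) (by decide +kernel)
  rw [prd_append, prd_append, prd_append, prd_reverse H (by decide), prd_reverse H (by decide),
    mul_inv_eq_one, mul_inv_eq_iff_eq_mul] at h
  exact h

theorem refX_braid : refX gen * gen 3 * refX gen = gen 3 * refX gen * gen 3 := by
  have h : prd gen (refl xX 2 ++ [3] ++ refl xX 2 ++ ([3] ++ refl xX 2 ++ [3]).reverse) = 1 :=
    checks_sound H (ms := mvXd0) (by decide +kernel)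
  rw [prd_append, prd_reverse H (by decide), mul_inv_eq_one, prd_append, prd_append, prd_append,
    prd_append] at h
  simp only [prd_cons, prd_nil, mul_one] at h
  exact h

theorem refY_braid : refY gen * gen 5 * refY gen = gen 5 * refY gen * gen 5 := by
  have h : prd gen (refl yX 0 ++ [5] ++ refl yX 0 ++ ([5] ++ refl yX 0 ++ [5]).reverse) = 1 :=
    checks_sound H (ms := mvYf0) (by decide +kernel)
  rw [prd_append, prd_reverse H (by decide), mul_inv_eq_one, prd_append, prd_append, prd_append,
    prd_append] at h
  simp only [prd_cons, prd_nil, mul_one] at h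
  exact h

omit H in
theorem prd_core (h3 : (gen 8 * theta6 gen) ^ 3 = 1) : prd gen core = 1 := by
  rw [core, prd_rep, prd_cons]
  exact h3

/-- If `i` and `theta6` satisfy the braid relation, the tenth power of the spider has order dividing `3`. -/
theorem spider_cube (h3 : (gen 8 * theta6 gen) ^ 3 = 1) : (prd gen spW ^ 10) ^ 3 = 1 := by
  have h : prd gen (rep 30 spW ++ blocks core blCube) = 1 :=
    checks_sound H (ms := mvCube) (by decide +kernel)
  rw [prd_append, prd_blocks H (prd_core h3) (by decide +kernel), mul_one, prd_rep] at h
  rw [← pow_mul]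
  exact h

/-- If `i` and `theta6` satisfy the braid relation, the tenth power of the spider is central. -/
theorem spider_central (h3 : (gen 8 * theta6 gen) ^ 3 = 1) {s : ℕ} (hs : s ∈ [1, 2, 3, 4, 5, 7, 8]) :
    Commute (gen s) (prd gen spW ^ 10) := by
  have hc := prd_core h3
  have key : ∀ {s : ℕ} {bs : List (List ℕ)} {ms : List ℕ}, s < 9 → (∀ b ∈ bs, ∀ z ∈ b, z < 9) →
      checks 9 edges ms (commW s (rep 10 spW) ++ blocks core bs) = true →
      Commute (gen s) (prd gen spW ^ 10) := by
    intro s bs ms hs hb h
    have e := checks_sound H h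
    rw [prd_append, prd_blocks H hc hb, mul_one] at e
    rw [← prd_rep]
    exact commute_of H hs (by decide +kernel) e
  simp only [List.mem_cons, List.not_mem_nil, or_false] at hs
  rcases hs with rfl | rfl | rfl | rfl | rfl | rfl | rfl
  · exact key (bs := blR0) (ms := mvR0) (by decide) (by decide +kernel) (by decide +kernel)
  · exact key (bs := blR1) (ms := mvR1) (by decide) (by decide +kernel) (by decide +kernel)
  · exact key (bs := blR2) (ms := mvR2) (by decide) (by decide +kernel) (by decide +kernel)
  · exact key (bs := blR3) (ms := mvR3) (by decide) (by decide +kernel) (by decide +kernel)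
  · exact key (bs := blR4) (ms := mvR4) (by decide) (by decide +kernel) (by decide +kernel)
  · exact key (bs := blR5) (ms := mvR5) (by decide) (by decide +kernel) (by decide +kernel)
  · exact key (bs := blR6) (ms := mvR6) (by decide) (by decide +kernel) (by decide +kernel)

end CfsgLib.Y332
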