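import Cfsg.Agent.Lib.ThreeTransp.M22Y332.Rewrite

/-!
# Four generators with the relations of a chain

The ten transpositions of the symmetric group of degree five as words, and for each a conjugator from the
first generator together with the words of the conjugates of the three transpositions disjoint from it.
-/

set_option autoImplicit false
set_option maxRecDepth 10000

namespace CfsgLib.Y332

variable {G : Type*} [Group G]

/-- The edges of a chain of four nodes. -/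
def chainE : List (ℕ × ℕ) := [(0, 1), (1, 2), (2, 3)]

/-- The ten transpositions. -/
def ten : List (List ℕ) :=
  [[0], [1], [2], [3], [0, 1, 0], [1, 2, 1], [2, 3, 2], [0, 1, 2, 1, 0], [1, 2, 3, 2, 1], [0, 1, 2, 3, 2, 1, 0]]

/-- The first generator and the three transpositions disjoint from it. -/
def disj : List (List ℕ) := [[0], [2], [3], [2, 3, 2]]

/-- Machine-produced conjugators, indices and moves. -/
def rows : List (List ℕ × List (ℕ × List ℕ)) := [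
  ([], [(0, [0]), (2, [0]), (3, [0]), (6, [8, 4, 0])]),
  ([0, 1], [(1, [2, 8, 4, 0]), (7, [16, 12, 8, 4, 0]), (3, [5, 8, 1, 4, 0]), (9, [24, 20, 16, 12, 8, 4, 0])]),
  ([1, 0, 2, 1], [(2, [5, 10, 16, 2, 9, 12, 8, 4, 0]), (0, [10, 16, 12, 2, 8, 4, 0]), (8, [13, 16, 5, 9, 13, 16,
    16, 12, 8, 4, 0]), (9, [10, 17, 22, 28, 2, 9, 13, 17, 22, 28, 24, 20, 16, 12, 8, 4, 0])]),
  ([2, 1, 0, 3, 2, 1], [(3, [9, 13, 18, 24, 5, 10, 17, 20, 2, 9, 13, 16, 12, 8, 4, 0]), (0, [18, 24, 20, 13, 16,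
    6, 12, 8, 1, 4, 0]), (1, [21, 24, 14, 20, 16, 9, 12, 2, 8, 4, 0]), (4, [18, 25, 13, 18, 26, 32, 28, 21, 24,
    6, 13, 1, 6, 14, 20, 16, 9, 12, 8, 4, 0])]),
  ([1], [(4, [2, 8, 4, 0]), (5, [8, 4, 0]), (3, [1, 4, 0]), (8, [16, 12, 8, 4, 0])]),
  ([0, 2, 1], [(5, [1, 6, 12, 9, 12, 2, 8, 4, 0]), (4, [6, 12, 8, 8, 4, 0]), (6, [9, 12, 1, 5, 9, 12, 8, 4, 0]),
    (9, [6, 13, 18, 24, 24, 20, 16, 12, 8, 4, 0])]),
  ([1, 0, 3, 2, 1], [(6, [5, 9, 14, 20, 1, 6, 13, 16, 13, 16, 9, 12, 2, 8, 4, 0]), (0, [14, 20, 16, 9, 12, 2, 8,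
    4, 0]), (5, [17, 20, 10, 16, 12, 5, 8, 8, 4, 0]), (7, [14, 21, 9, 14, 22, 28, 24, 17, 20, 2, 9, 14, 20, 16,
    12, 8, 4, 0])]),
  ([2, 1], [(7, [6, 13, 16, 1, 6, 12, 8, 4, 0]), (1, [2, 8, 4, 0]), (6, [5, 8, 8, 4, 0]), (8, [2, 9, 14, 20, 16,
    12, 8, 4, 0])]),
  ([0, 3, 2, 1], [(8, [1, 5, 10, 16, 13, 17, 20, 6, 13, 16, 1, 6, 12, 8, 4, 0]), (4, [10, 16, 12, 5, 8, 8, 4,
    0]), (2, [13, 16, 6, 12, 8, 1, 4, 0]), (7, [10, 17, 5, 10, 18, 24, 20, 13, 16, 16, 12, 8, 4, 0])]),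
  ([3, 2, 1], [(9, [10, 17, 21, 24, 5, 10, 17, 20, 1, 5, 10, 16, 12, 8, 4, 0]), (1, [6, 12, 8, 1, 4, 0]), (2,
    [9, 12, 2, 8, 4, 0]), (5, [6, 13, 1, 6, 14, 20, 16, 9, 12, 8, 4, 0])])]

/-- The validity of the table. -/
def rowsOk : Bool :=
  (List.range 10).all fun i =>
    let r := rows.getD i ([], [])
    r.1.all (fun x => Nat.blt x 4) &&
      (List.range 4).all fun k =>
        let e := r.2.getD k (0, [])
        Nat.blt e.1 10 && (!(Nat.beq k 0) || Nat.beq e.1 i) &&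
          checks 4 chainE e.2 (r.1 ++ disj.getD k [] ++ r.1.reverse ++ (ten.getD e.1 []).reverse)

variable {gen : ℕ → G}

/-- Every transposition is a conjugate of the first, and so are its three disjoint ones of the three. -/
theorem chain_conj (H : Sat 4 chainE gen) {w : List ℕ} (hw : w ∈ ten) :
    ∃ h : List ℕ, (∀ x ∈ h, x < 4) ∧ prd gen h * gen 0 * (prd gen h)⁻¹ = prd gen w ∧
      ∀ t ∈ [[2], [3], [2, 3, 2]], ∃ w' ∈ ten, prd gen h * prd gen t * (prd gen h)⁻¹ = prd gen w' := by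
  have hok : rowsOk = true := by decide +kernel
  obtain ⟨i, hi, rfl⟩ := List.mem_iff_getElem.1 hw
  have h10 : ten.length = 10 := rfl
  simp only [rowsOk, List.all_eq_true, List.mem_range, Bool.and_eq_true, Nat.blt_eq] at hok
  obtain ⟨hr, hk⟩ := hok i (h10 ▸ hi)
  set r := rows.getD i ([], []) with hrdef
  have hlt : ∀ k, k < 10 → ∀ x ∈ ten.getD k [], x < 4 := by decide
  have key : ∀ k, k < 4 → ∃ j, j < 10 ∧ (k = 0 → j = i) ∧
      prd gen r.1 * prd gen (disj.getD k []) * (prd gen r.1)⁻¹ = prd gen (ten.getD j []) := by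
    intro k hk4
    obtain ⟨⟨hj, hj0⟩, hc⟩ := hk k hk4
    refine ⟨_, hj, fun h => ?_, ?_⟩
    · subst h
      simpa using hj0
    · have e := checks_sound H hc
      rw [prd_append, prd_append, prd_append, prd_reverse H hr, prd_reverse H (hlt _ hj), mul_inv_eq_one] at e
      exact e
  refine ⟨r.1, hr, ?_, ?_⟩
  · obtain ⟨j, -, hj, e⟩ := key 0 (by decide)
    rw [hj rfl] at e
    rw [show ten[i] = ten.getD i [] by simp [List.getD, hi], ← e]
    simp [disj, prd]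
  · intro t ht
    simp only [List.mem_cons, List.not_mem_nil, or_false] at ht
    have mem : ∀ k, k < 10 → ten.getD k [] ∈ ten := by decide
    rcases ht with rfl | rfl | rfl
    · obtain ⟨j, hj, -, e⟩ := key 1 (by decide)
      exact ⟨_, mem j hj, e⟩
    · obtain ⟨j, hj, -, e⟩ := key 2 (by decide)
      exact ⟨_, mem j hj, e⟩
    · obtain ⟨j, hj, -, e⟩ := key 3 (by decide)
      exact ⟨_, mem j hj, e⟩

end CfsgLib.Y332
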