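import Cfsg.Agent.Lib.ThreeTransp.M22Y332.Near

/-!
# Groups of type `M(22)`: the edge lemma for common neighbours of two non-commuting pairs

If `u`, `v` commute in the eighteen, the further neighbours of `u` commute with those of `v`: otherwise a chain
of four generates ten transpositions of the symmetric group of degree five closed under neighbourhoods, and
every member commutes with one of the ten.
-/

set_option autoImplicit false
set_option linter.unusedSectionVars false

namespace CfsgLib.M22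

open CfsgLib.ThreeTransp CfsgLib.SporMisc CfsgLib.FischerPair
open CfsgLib.U6 (IsPt IsPlane)
open CfsgLib.PSUAut (Isot)
open CfsgLib.Y332 (prd prd_nil prd_cons)

variable {G : Type*} [Group G] {D : Set G}
variable [Finite G] (S : Setup D) {F : Type} [Field F] [Fintype F] (hF : Fintype.card F = 2 ^ 2)
  (hM : ∀ a ∈ D, Nonempty (Model D a F))
include S hF hM

theorem Quad.edge {a b x g u v u' v' : G} (Q : Quad D a b x g) (hu : u ∈ quad D a b x g)
    (hv : v ∈ quad D a b x g ∩ link D u) (hu' : u' ∈ quad D a b x g ∩ link D v)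
    (hv' : v' ∈ quad D a b x g ∩ link D u) (hu'u : u' ≠ u) (hv'v : v' ≠ v) : Commute u' v' := by
  classical
  by_contra hn
  have huv : u ∈ quad D a b x g ∩ link D v := ⟨hu, link_swap hu.1.1.1 hv.2⟩
  have huu' : ¬ Commute u u' := Q.no_triangle S hF hM hv.1 huv hu' hu'u.symm
  have hvv' : ¬ Commute v v' := Q.no_triangle S hF hM hu hv hv' hv'v.symm
  have hD : ∀ {z : G}, z ∈ quad D a b x g → z ∈ D := fun hz => hz.1.1.1
  set gen : ℕ → G := fun i => [u, u', v', v].getD i 1 with hgen
  have g0 : gen 0 = u := rfl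
  have g1 : gen 1 = u' := rfl
  have g2 : gen 2 = v' := rfl
  have g3 : gen 3 = v := rfl
  have cuv : u * v = v * u := hv.2.2.2
  have cuv' : u * v' = v' * u := hv'.2.2.2
  have cvu' : v * u' = u' * v := hu'.2.2.2
  have H : Y332.Sat 4 Y332.chainE gen := by
    have br : ∀ {p q : G}, p ∈ quad D a b x g → q ∈ quad D a b x g → ¬ Commute p q → p * q * p = q * p * q :=
      fun hp hq h => S.tt.braid (hD hp) (hD hq) h
    refine ⟨fun i hi => ?_, fun i j hi hj he => ?_, fun i j hi hj he => ?_⟩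
    · interval_cases i
      exacts [S.sqd (hD hu), S.sqd (hD hu'.1), S.sqd (hD hv'.1), S.sqd (hD hv.1)]
    · interval_cases i <;> interval_cases j <;>
        simp [Y332.isEdge, Y332.chainE, g0, g1, g2, g3, cuv, cuv', cvu'] at he ⊢
    · interval_cases i <;> interval_cases j <;>
        simp [Y332.isEdge, Y332.chainE, g0, g1, g2, g3] at he ⊢
      exacts [br hu hu'.1 huu', br hu'.1 hu fun h => huu' h.symm, br hu'.1 hv'.1 hn,
        br hv'.1 hu'.1 fun h => hn h.symm, br hv'.1 hv.1 fun h => hvv' h.symm, br hv.1 hv'.1 hvv']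
  have cj : ∀ {p q : G}, p ∈ quad D a b x g → q ∈ quad D a b x g → p * q * p ∈ quad D a b x g :=
    fun hp hq => quad_conj S Q hp hq
  have hgm : ∀ i, i < 4 → gen i ∈ quad D a b x g := by
    intro i hi
    interval_cases i
    exacts [hu, hu'.1, hv'.1, hv.1]
  have q12 := cj hu hu'.1
  have q23 := cj hu'.1 hv'.1
  have q34 := cj hv'.1 hv.1
  have q13 := cj hu q23
  have q24 := cj hu'.1 q34
  have q14 := cj hu q24
  have hK : ∀ w ∈ Y332.ten, prd gen w ∈ quad D a b x g := by
    intro w hw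
    simp only [Y332.ten, List.mem_cons, List.not_mem_nil, or_false] at hw
    rcases hw with rfl | rfl | rfl | rfl | rfl | rfl | rfl | rfl | rfl | rfl <;>
      simp only [prd_cons, prd_nil, mul_one, g0, g1, g2, g3, ← mul_assoc]
    exacts [hu, hu'.1, hv'.1, hv.1, q12, q23, q34, by simpa only [← mul_assoc] using q13,
      by simpa only [← mul_assoc] using q24, by simpa only [← mul_assoc] using q14]
  have hconj : ∀ {h : List ℕ}, (∀ i ∈ h, i < 4) → ∀ z ∈ quad D a b x g,
      prd gen h * z * (prd gen h)⁻¹ ∈ quad D a b x g := by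
    intro h
    induction h with
    | nil => intro _ z hz; simpa [prd_nil] using hz
    | cons i h ih =>
      intro hlt z hz
      have h1 := ih (fun j hj => hlt j (List.mem_cons_of_mem _ hj)) z hz
      have h2 := cj (hgm i (hlt i List.mem_cons_self)) h1
      have e : (gen i)⁻¹ = gen i := S.tt.inv_eq (hD (hgm i (hlt i List.mem_cons_self)))
      rw [prd_cons, mul_inv_rev, e]
      simpa only [mul_assoc] using h2
  -- the ten are closed under neighbourhoods
  have closed : ∀ w ∈ Y332.ten, ∀ z ∈ quad D a b x g, Commute z (prd gen w) →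
      ∃ w' ∈ Y332.ten, z = prd gen w' := by
    intro w hw z hz hzw
    obtain ⟨h, hh, he, ht⟩ := Y332.chain_conj H hw
    set k := prd gen h with hk
    have hz' : k⁻¹ * z * k ∈ quad D a b x g := by
      have := hconj (h := h.reverse) (fun i hi => hh i (List.mem_reverse.1 hi)) z hz
      rwa [Y332.prd_reverse H hh, inv_inv] at this
    rw [g0] at he
    have hc : Commute (k⁻¹ * z * k) u := by
      refine (Commute.conj_iff k).1 ?_
      rw [he, show k * (k⁻¹ * z * k) * k⁻¹ = z by group]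
      exact hzw
    by_cases hzu : k⁻¹ * z * k = u
    · exact ⟨w, hw, by rw [← he, ← hzu]; group⟩
    have hmem : k⁻¹ * z * k ∈ quad D a b x g ∩ link D u := ⟨hz', hD hz', hzu, hc.symm⟩
    have back : ∀ {e : G}, k⁻¹ * z * k = e → z = k * e * k⁻¹ := fun h => by rw [← h]; group
    rcases Q.three S hF hM hu hv' hv (fun h => hvv' h.symm) hmem with e | e | e
    · obtain ⟨w', hw', e'⟩ := ht [2] (by simp)
      exact ⟨w', hw', by rw [← e', back e]; simp only [prd_cons, prd_nil, mul_one, g2]⟩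
    · obtain ⟨w', hw', e'⟩ := ht [3] (by simp)
      exact ⟨w', hw', by rw [← e', back e]; simp only [prd_cons, prd_nil, mul_one, g3]⟩
    · obtain ⟨w', hw', e'⟩ := ht [2, 3, 2] (by simp)
      exact ⟨w', hw', by rw [← e', back e]; simp only [prd_cons, prd_nil, mul_one, g2, g3, mul_assoc]⟩
  obtain ⟨A⟩ := hM a Q.ha
  have la : ∀ {z : G}, z ∈ quad D a b x g → z ∈ link D a := fun hz => hz.1.1
  have norm : ∀ {e : G} (he : e ∈ quad D a b x g) {f : G} (hf : f ∈ quad D a b x g) {w : Fin 6 → F},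
      IsPt (A.img (la hf)) w → ¬ Commute e f → ∃ p, IsPt (A.img (la he)) p ∧ Cfsg.hermForm 6 F 2 p w = 1 := by
    intro e he f hf w hw hne
    obtain ⟨p, hp⟩ := A.exists_pt_of_link S hF Q.ha (la he)
    have h0 : Cfsg.hermForm 6 F 2 p w ≠ 0 := fun h => hne ((A.comm_iff S hF Q.ha (la he) (la hf) hp hw).2 h)
    exact ⟨(Cfsg.hermForm 6 F 2 p w)⁻¹ • p, hp.smul hF (inv_ne_zero h0),
      by rw [U6.smul_left hF, inv_mul_cancel₀ h0]⟩
  obtain ⟨P1, h1⟩ := A.exists_pt_of_link S hF Q.ha (la hu)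
  obtain ⟨P2, h2, e21⟩ := norm hu'.1 hu h1 fun h => huu' h.symm
  obtain ⟨P3, h3, e32⟩ := norm hv'.1 hu'.1 h2 fun h => hn h.symm
  obtain ⟨P4, h4, e43⟩ := norm hv.1 hv'.1 h3 hvv'
  have e31 : Cfsg.hermForm 6 F 2 P3 P1 = 0 := (A.comm_iff S hF Q.ha _ _ h3 h1).1 (cuv'.symm)
  have e41 : Cfsg.hermForm 6 F 2 P4 P1 = 0 := (A.comm_iff S hF Q.ha _ _ h4 h1).1 (cuv.symm)
  have e42 : Cfsg.hermForm 6 F 2 P4 P2 = 0 := (A.comm_iff S hF Q.ha _ _ h4 h2).1 cvu'
  obtain ⟨l12, h12⟩ := A.conj_vec S hF (la hu'.1) (la hu) h2 h1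
  obtain ⟨l23, h23⟩ := A.conj_vec S hF (la hv'.1) (la hu'.1) h3 h2
  obtain ⟨l34, h34⟩ := A.conj_vec S hF (la hv.1) (la hv'.1) h4 h3
  obtain ⟨l13, h13⟩ := A.conj_vec S hF l23 (la hu) h23 h1
  obtain ⟨l24, h24⟩ := A.conj_vec S hF l34 (la hu'.1) h34 h2
  obtain ⟨l14, h14⟩ := A.conj_vec S hF l24 (la hu) h24 h1
  simp only [U6.add_left hF, U6.smul_left hF, e21, e31, e32, e41, e42, e43, one_mul, zero_add, add_zero,
    one_smul, mul_one] at h12 h23 h34 h13 h24 h14
  -- every member commutes with one of the ten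
  have hall : ∀ z ∈ quad D a b x g, ∃ w' ∈ Y332.ten, z = prd gen w' := by
    intro z hz
    by_contra hno
    obtain ⟨Z, hZ⟩ := A.exists_pt_of_link S hF Q.ha (la hz)
    have hne : ∀ {e : G} (le : e ∈ link D a) {p : Fin 6 → F}, IsPt (A.img le) p →
        (∃ w ∈ Y332.ten, prd gen w = e) → Cfsg.hermForm 6 F 2 p Z ≠ 0 := by
      rintro e le p hp ⟨w, hw, rfl⟩ h
      exact hno (closed w hw z hz ((A.comm_iff S hF Q.ha le (la hz) hp hZ).2 h).symm)
    have n1 := hne (la hu) h1 ⟨[0], by simp [Y332.ten], by simp [prd_cons, prd_nil, g0]⟩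
    have n2 := hne (la hu'.1) h2 ⟨[1], by simp [Y332.ten], by simp [prd_cons, prd_nil, g1]⟩
    have n3 := hne (la hv'.1) h3 ⟨[2], by simp [Y332.ten], by simp [prd_cons, prd_nil, g2]⟩
    have n4 := hne (la hv.1) h4 ⟨[3], by simp [Y332.ten], by simp [prd_cons, prd_nil, g3]⟩
    have n12 := hne l12 h12 ⟨[0, 1, 0], by simp [Y332.ten], by simp [prd_cons, prd_nil, g0, g1, mul_assoc]⟩
    have n23 := hne l23 h23 ⟨[1, 2, 1], by simp [Y332.ten], by simp [prd_cons, prd_nil, g1, g2, mul_assoc]⟩
    have n34 := hne l34 h34 ⟨[2, 3, 2], by simp [Y332.ten], by simp [prd_cons, prd_nil, g2, g3, mul_assoc]⟩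
    have n13 := hne l13 h13
      ⟨[0, 1, 2, 1, 0], by simp [Y332.ten], by simp [prd_cons, prd_nil, g0, g1, g2, mul_assoc]⟩
    have n24 := hne l24 h24
      ⟨[1, 2, 3, 2, 1], by simp [Y332.ten], by simp [prd_cons, prd_nil, g1, g2, g3, mul_assoc]⟩
    have n14 := hne l14 h14
      ⟨[0, 1, 2, 3, 2, 1, 0], by simp [Y332.ten], by simp [prd_cons, prd_nil, g0, g1, g2, g3, mul_assoc]⟩
    simp only [U6.add_left hF] at n1 n2 n3 n4 n12 n23 n34 n13 n24 n14
    set f1 := Cfsg.hermForm 6 F 2 P1 Z
    set f2 := Cfsg.hermForm 6 F 2 P2 Z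
    set f3 := Cfsg.hermForm 6 F 2 P3 Z
    set f4 := Cfsg.hermForm 6 F 2 P4 Z
    have hnd : [0, f1, f1 + f2, f1 + f2 + f3, f1 + f2 + f3 + f4].Nodup := by
      simp only [List.nodup_cons, List.mem_cons, List.not_mem_nil, or_false, not_or, List.nodup_nil,
        not_false_eq_true, and_true]
      refine ⟨⟨?_, ?_, ?_, ?_⟩, ⟨?_, ?_, ?_⟩, ⟨?_, ?_⟩, ?_⟩
      · exact fun h => n1 h.symm
      · exact fun h => n12 (by linear_combination -h)
      · exact fun h => n13 (by linear_combination -h)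
      · exact fun h => n14 (by linear_combination -h)
      · exact fun h => n2 (by linear_combination -h)
      · exact fun h => n23 (by linear_combination -h)
      · exact fun h => n24 (by linear_combination -h)
      · exact fun h => n3 (by linear_combination -h)
      · exact fun h => n34 (by linear_combination -h)
      · exact fun h => n4 (by linear_combination -h)
    have := hnd.length_le_card
    rw [hF] at this
    simp at this
  have hsub : quad D a b x g ⊆ ↑((Y332.ten.map (prd gen)).toFinset) := by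
    intro z hz
    obtain ⟨w, hw, rfl⟩ := hall z hz
    simpa using ⟨w, hw, rfl⟩
  have h18 := (Set.ncard_le_ncard hsub (Set.toFinite _)).trans_eq (Set.ncard_coe_finset _)
  have h10 := h18.trans (List.toFinset_card_le _)
  rw [quad_ncard S hF hM Q, List.length_map] at h10
  simp [Y332.ten] at h10

end CfsgLib.M22
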