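import Cfsg.Agent.Lib.ThreeTransp.M22Y332.Base
import Cfsg.Agent.Lib.ThreeTransp.M22Y332.Edge
import Cfsg.Agent.Lib.ThreeTransp.M22Y332.Cert

/-!
# Groups of type `M(22)`: a configuration with the diagram `Y₃₃₂`

Nine members with the commuting pattern of the diagram, with what is needed about them to verify the further
relations of the presentation of `Fi₂₂`.
-/

set_option autoImplicit false
set_option linter.unusedSectionVars false

namespace CfsgLib.M22

open CfsgLib.ThreeTransp CfsgLib.SporMisc CfsgLib.FischerPair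
open CfsgLib.U6 (IsPt IsPlane)
open CfsgLib.PSUAut (Isot)
open CfsgLib.Y332 (isEdge edges)

variable {G : Type*} [Group G]

/-- Nine members `a, …, i` forming the diagram `Y₃₃₂`, in general position. -/
structure Config (D : Set G) (gen : ℕ → G) : Prop where
  mem : ∀ i, i < 9 → gen i ∈ D
  cox : Y332.IsY332 gen
  nc : ∀ i j, i < 9 → j < 9 → isEdge edges i j = true → ¬ Commute (gen i) (gen j)
  /-- nothing commutes with `a, b, c, d, e, f, h` -/
  noABCDEFH : ∀ q ∈ D, Commute q (gen 0) → Commute q (gen 1) → Commute q (gen 2) → Commute q (gen 3) →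
    Commute q (gen 4) → Commute q (gen 5) → Commute q (gen 7) → False
  /-- nothing off the link of `a` commutes with `c, e, g` -/
  noCEG : ∀ q ∈ D, ¬ Commute (gen 0) q → Commute q (gen 2) → Commute q (gen 4) → Commute q (gen 6) → False
  /-- what commutes with `a, b, c, d, e, h` is `g` or does not commute with `i` -/
  six : ∀ q ∈ D, Commute q (gen 0) → Commute q (gen 1) → Commute q (gen 2) → Commute q (gen 3) →
    Commute q (gen 4) → Commute q (gen 7) → q = gen 6 ∨ ¬ Commute q (gen 8)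
  /-- some member of the link of `a` seeing two given ones is moved by `c * e * h * g` -/
  moved : ∀ p r, p ∈ link D (gen 0) → r ∈ link D (gen 0) ∩ link D p → ∃ w ∈ link D (gen 0),
    Commute w p ∧ Commute w r ∧ ¬ Commute w (gen 2 * gen 4 * gen 7 * gen 6)

variable {D : Set G}
variable [Finite G] (S : Setup D) {F : Type} [Field F] [Fintype F] (hF : Fintype.card F = 2 ^ 2)
  (hM : ∀ a ∈ D, Nonempty (Model D a F))
include S hF hM

/-- The neighbour `d` and one of its neighbours `i` seeing different members of the six. -/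
theorem exists_pair_mi {a b x g e5 e6 : G} {B : Set G} (T : Six D a b B) (hg : g ∈ six D a b B)
    (h5 : e5 ∈ six D a b B) (h6 : e6 ∈ six D a b B) (hx : x ∈ common D a b) (hxB : x ∉ B)
    (cx5 : Commute x e5) (cx6 : Commute x e6) (n56 : e5 ≠ e6) (n5 : g ≠ e5) (n6 : g ≠ e6) :
    ∃ m z k l, m ∈ quad D a b x g ∧ z ∈ quad D a b x g ∧ m ∉ B ∧ z ∉ B ∧ Commute z m ∧
      k ∈ six D a b B ∧ l ∈ six D a b B ∧ k ≠ g ∧ l ≠ g ∧ Commute m k ∧ Commute z l ∧
      ¬ Commute m e5 ∧ ¬ Commute m e6 ∧ ¬ Commute z e5 ∧ ¬ Commute m l ∧ ¬ Commute z k ∧ l ≠ e5 ∧ ¬ Commute x l ∧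
      ¬ Commute x g := by
  classical
  have only : ∀ f ∈ six D a b B, Commute x f → f = e5 ∨ f = e6 := fun f hf c =>
    T.le_two S hF hM hx.1 hxB h5 h6 hf n56 cx5 cx6 c
  have hxg : ¬ Commute x g := fun c => by
    rcases only g hg c with h | h
    exacts [n5 h, n6 h]
  have Q : Quad D a b x g := ⟨T.ha, T.hb, T.hab, hx, hg.2, hxg⟩
  have q5 : e5 ∈ quad D a b x g := ⟨h5.2, cx5.symm, T.base.comm e5 h5.1 g hg.1⟩
  have q6 : e6 ∈ quad D a b x g := ⟨h6.2, cx6.symm, T.base.comm e6 h6.1 g hg.1⟩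
  have inB : ∀ {u : G}, u ∈ quad D a b x g → u ∈ B → u = e5 ∨ u = e6 := fun hu hB =>
    only _ ⟨hB, hu.1⟩ hu.2.1.symm
  obtain ⟨m, hm, hmn⟩ : ∃ m ∈ quad D a b x g, m ∉ insert e5 (insert e6
      ((quad D a b x g ∩ link D e5) ∪ (quad D a b x g ∩ link D e6))) := by
    by_contra hcon
    push Not at hcon
    have h1 := Set.ncard_le_ncard (fun u hu => hcon u hu) (Set.toFinite _)
    have h2 := (Set.ncard_union_le (quad D a b x g ∩ link D e5) (quad D a b x g ∩ link D e6)).trans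
      (Nat.add_le_add (Q.near_le S hF hM q5) (Q.near_le S hF hM q6))
    have h3 := (Set.ncard_insert_le e5 (insert e6
      ((quad D a b x g ∩ link D e5) ∪ (quad D a b x g ∩ link D e6)))).trans
      (Nat.add_le_add_right (Set.ncard_insert_le e6 _) 1)
    rw [quad_ncard S hF hM Q] at h1
    omega
  simp only [Set.mem_insert_iff, Set.mem_union, Set.mem_inter_iff, not_or, not_and] at hmn
  obtain ⟨nm5, nm6, hm5, hm6⟩ := hmn
  have cm5 : ¬ Commute m e5 := fun c => hm5 hm ⟨hm.1.1.1, nm5, c.symm⟩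
  have cm6 : ¬ Commute m e6 := fun c => hm6 hm ⟨hm.1.1.1, nm6, c.symm⟩
  have hmB : m ∉ B := fun h => by
    rcases inB hm h with h | h
    exacts [nm5 h, nm6 h]
  obtain ⟨k, hk, hkg, cmk⟩ := T.second S hF hM hm.1 hmB hg hm.2.2
  -- two non-commuting neighbours of `m`
  obtain ⟨n, hn⟩ := Q.exists_near S hF hM hm
  obtain ⟨n', hn', hnn⟩ := Q.partner S hF hM hm hn
  have near : ∀ {u : G}, u ∈ quad D a b x g ∩ link D m → u ∉ B ∧ ¬ Commute u e5 ∧ ¬ Commute u e6 := by
    intro u hu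
    have cum : Commute u m := hu.2.2.2.symm
    have huB : u ∉ B := fun h => by
      rcases inB hu.1 h with rfl | rfl
      exacts [cm5 cum.symm, cm6 cum.symm]
    have key : ∀ {e e' : G}, e ∈ six D a b B → e' ∈ six D a b B → e ∈ quad D a b x g → e' ∈ quad D a b x g →
        e ≠ e' → ¬ Commute m e → ¬ Commute m e' → ¬ Commute u e := by
      intro e e' he he' qe qe' hee cme cme' c
      have hue : u ≠ e := fun h => huB (h ▸ he.1)
      have hve : e ∈ quad D a b x g ∩ link D u := ⟨qe, qe.1.1.1, hue.symm, c⟩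
      have he'' : e' ∈ quad D a b x g ∩ link D e :=
        ⟨qe', qe'.1.1.1, hee.symm, T.base.comm e he.1 e' he'.1⟩
      have hm' : m ∈ quad D a b x g ∩ link D u := ⟨hm, link_swap hm.1.1.1 hu.2⟩
      exact cme' (Q.edge S hF hM hu.1 hve he'' hm' (fun h => huB (h ▸ he'.1))
        (fun h => hmB (h ▸ he.1))).symm
    exact ⟨huB, key h5 h6 q5 q6 n56 cm5 cm6, key h6 h5 q6 q5 n56.symm cm6 cm5⟩
  have good : ∀ {u l : G}, u ∈ quad D a b x g ∩ link D m → l ∈ six D a b B → l ≠ g → Commute u l → l ≠ k →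
      ∃ m z k l, m ∈ quad D a b x g ∧ z ∈ quad D a b x g ∧ m ∉ B ∧ z ∉ B ∧ Commute z m ∧
        k ∈ six D a b B ∧ l ∈ six D a b B ∧ k ≠ g ∧ l ≠ g ∧ Commute m k ∧ Commute z l ∧
        ¬ Commute m e5 ∧ ¬ Commute m e6 ∧ ¬ Commute z e5 ∧ ¬ Commute m l ∧ ¬ Commute z k ∧ l ≠ e5 ∧ ¬ Commute x l ∧
        ¬ Commute x g := by
    intro u l hu hl hlg cul hlk
    obtain ⟨huB, cu5, cu6⟩ := near hu
    refine ⟨m, u, k, l, hm, hu.1, hmB, huB, hu.2.2.2.symm, hk, hl, hkg, hlg, cmk, cul, cm5, cm6, cu5, ?_, ?_, ?_,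
      ?_, hxg⟩
    · intro c
      rcases T.le_two S hF hM hm.1.1 hmB hg hk hl hkg.symm hm.2.2 cmk c with h | h
      exacts [hlg h, hlk h]
    · intro c
      rcases T.le_two S hF hM hu.1.1.1 huB hg hl hk hlg.symm hu.1.2.2 cul c with h | h
      exacts [hkg h, hlk h.symm]
    · exact fun h => cu5 (h ▸ cul)
    · intro c
      rcases only l hl c with h | h
      exacts [cu5 (h ▸ cul), cu6 (h ▸ cul)]
  obtain ⟨l, hl, hlg, cnl⟩ := T.second S hF hM hn.1.1 (near hn).1 hg hn.1.2.2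
  obtain ⟨l', hl', hlg', cnl'⟩ := T.second S hF hM hn'.1.1 (near hn').1 hg hn'.1.2.2
  by_cases hlk : l = k
  swap
  · exact good hn hl hlg cnl hlk
  by_cases hlk' : l' = k
  swap
  · exact good hn' hl' hlg' cnl' hlk'
  -- both see `k`: the third neighbour would lie in the base
  exfalso
  rw [hlk] at cnl
  rw [hlk'] at cnl'
  obtain ⟨A⟩ := hM a T.ha
  obtain ⟨N, hN⟩ := A.exists_pt_of_link S hF T.ha hn.1.1.1
  obtain ⟨M, hM'⟩ := A.exists_pt_of_link S hF T.ha hn'.1.1.1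
  obtain ⟨P, hP⟩ := A.exists_pt_of_link S hF T.ha hg.2.1
  obtain ⟨Q', hQ⟩ := A.exists_pt_of_link S hF T.ha hk.2.1
  obtain ⟨R, hR⟩ := A.exists_pt_of_link S hF T.ha h5.2.1
  have hk5 : k ≠ e5 := fun h => cm5 (h ▸ cmk)
  have hPl := T.isPlane S hF A hg.2.1 hk.2.1 h5.2.1 hg.1 hk.1 h5.1 hkg.symm hP hQ hR
    (T.noncollinear S hF hM A hg hk h5 hkg.symm n5 hk5 hP hQ hR)
  have cmm : ∀ {p q : G} (lp : p ∈ link D a) (lq : q ∈ link D a) {v w : Fin 6 → F}, IsPt (A.img lp) v →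
      IsPt (A.img lq) w → Commute p q → Cfsg.hermForm 6 F 2 v w = 0 :=
    fun lp lq _ _ hv hw h => (A.comm_iff S hF T.ha lp lq hv hw).1 h
  set al := Cfsg.hermForm 6 F 2 N R with hal
  set be := Cfsg.hermForm 6 F 2 M R with hbe
  have hal0 : al ≠ 0 := fun h => (near hn).2.1 ((A.comm_iff S hF T.ha hn.1.1.1 h5.2.1 hN hR).2 h)
  have hbe0 : be ≠ 0 := fun h => (near hn').2.1 ((A.comm_iff S hF T.ha hn'.1.1.1 h5.2.1 hM' hR).2 h)
  obtain ⟨p, q, r, hZ⟩ := hPl.mem_of_perp hF (z := be • N + al • M)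
    (by rw [U6.add_left hF, U6.smul_left hF, U6.smul_left hF, cmm hn.1.1.1 hg.2.1 hN hP hn.1.2.2,
      cmm hn'.1.1.1 hg.2.1 hM' hP hn'.1.2.2, mul_zero, mul_zero, add_zero])
    (by rw [U6.add_left hF, U6.smul_left hF, U6.smul_left hF, cmm hn.1.1.1 hk.2.1 hN hQ cnl,
      cmm hn'.1.1.1 hk.2.1 hM' hQ cnl', mul_zero, mul_zero, add_zero])
    (by rw [U6.add_left hF, U6.smul_left hF, U6.smul_left hF, ← hal, ← hbe, mul_comm al be]
        exact U6.add_self hF _)
  have hMN : Cfsg.hermForm 6 F 2 M N ≠ 0 := fun h =>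
    hnn ((A.comm_iff S hF T.ha hn'.1.1.1 hn.1.1.1 hM' hN).2 h).symm
  have hNM : M ∉ Submodule.span F {N} :=
    A.notMem S hF T.ha hn.1.1.1 hn'.1.1.1 hN hM' (fun h => hnn (h ▸ Commute.refl n))
  have hiso : Isot 2 (be • N + al • M) := by
    refine ⟨fun h => hNM (Submodule.mem_span_singleton.2 ⟨-(al⁻¹ * be), ?_⟩), ?_⟩
    · rw [neg_smul, ← smul_smul, ← smul_neg, inv_smul_eq_iff₀ hal0]
      exact neg_eq_of_add_eq_zero_right h
    · rw [hZ]; exact U6.perp_comb hF hPl _ _ _ _ _ _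
  have hzn : Cfsg.hermForm 6 F 2 (be • N + al • M) N ≠ 0 := by
    rw [U6.add_left hF, U6.smul_left hF, U6.smul_left hF, hN.1.2, mul_zero, zero_add]
    exact mul_ne_zero hal0 hMN
  have hmem : ∀ {u : G} (lu : u ∈ link D a) {w : Fin 6 → F}, IsPt (A.img lu) w → ∀ t : F, t ≠ 0 →
      be • N + al • M = t • w → u ∈ B := by
    intro u lu w hw t ht e
    rw [A.base_eq S hF T.ha T.base T.haB hg.2.1 hk.2.1 h5.2.1 hg.1 hk.1 h5.1 hP hQ hR hPl]
    refine Or.inr ⟨lu, _, hw.smul hF ht, ?_⟩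
    rw [← e, hZ]
    exact Submodule.mem_span_triple.2 ⟨p, q, r, rfl⟩
  obtain ⟨t, ht0, ht | ht⟩ := U6.chord_cases hF hN.1 hM'.1 hiso hMN hzn
    (Submodule.mem_span_pair.2 ⟨be, al, rfl⟩)
  · exact (near hn').1 (hmem hn'.1.1.1 hM' t ht0 ht)
  · obtain ⟨lm, hm'⟩ := A.conj_vec S hF hn'.1.1.1 hn.1.1.1 hM' hN
    have q3 := quad_conj S Q hn.1 hn'.1
    have c3 : Commute (n * n' * n) m := ((hn.2.2.2.symm).mul_left hn'.2.2.2.symm).mul_left hn.2.2.2.symm
    rcases inB q3 (hmem lm hm' t ht0 ht) with h | h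
    · exact cm5 (h ▸ c3).symm
    · exact cm6 (h ▸ c3).symm

/-- The configuration exists. -/
theorem exists_config {a b : G} (ha : a ∈ D) (hb : b ∈ D) (hab : ¬ Commute a b) :
    ∃ gen : ℕ → G, Config D gen ∧ gen 0 = a := by
  classical
  obtain ⟨B, T⟩ := exists_six_base S hF hM ha hb hab
  obtain ⟨h, hh⟩ := T.ne
  obtain ⟨e6, h6, n6⟩ : ∃ e ∈ six D a b B, e ≠ h :=
    Set.exists_ne_of_one_lt_ncard (by rw [T.ncard S hF hM]; norm_num) h
  obtain ⟨f, hf, hfB, cfh, cf6⟩ := T.exists_seeing S hF hM hh h6 n6.symm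
  obtain ⟨g, hg, hgn⟩ : ∃ g ∈ six D a b B, g ∉ ({h, e6} : Set G) :=
    Set.exists_mem_notMem_of_ncard_lt_ncard
      (lt_of_le_of_lt (Set.ncard_insert_le h {e6}) (by rw [T.ncard S hF hM, Set.ncard_singleton]; norm_num))
  simp only [Set.mem_insert_iff, Set.mem_singleton_iff, not_or] at hgn
  obtain ⟨d, i, k, e, hd, hi, hdB, hiB, cid, hk, he, hkg, heg, cdk, cie, cdh, cd6', cih, cde, cik, neh, cfe, cfg⟩ :=
    exists_pair_mi S hF hM T hg hh h6 hf hfB cfh cf6 n6.symm hgn.1 hgn.2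
  obtain ⟨A⟩ := hM a ha
  obtain ⟨Gv, hG⟩ := A.exists_pt_of_link S hF ha hg.2.1
  obtain ⟨E, hE⟩ := A.exists_pt_of_link S hF ha he.2.1
  obtain ⟨H, hH⟩ := A.exists_pt_of_link S hF ha hh.2.1
  obtain ⟨X, hX⟩ := A.exists_pt_of_link S hF ha hf.1
  have hnc : H ∉ Submodule.span F {Gv, E} :=
    T.noncollinear S hF hM A hg he hh heg.symm hgn.1 neh hG hE hH
  have hPl := T.isPlane S hF A hg.2.1 he.2.1 hh.2.1 hg.1 he.1 hh.1 heg.symm hG hE hH hnc
  set x0 := Cfsg.hermForm 6 F 2 E X with hx0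
  set y0 := Cfsg.hermForm 6 F 2 Gv X with hy0
  have hx0' : x0 ≠ 0 := fun h => cfe ((A.comm_iff S hF ha he.2.1 hf.1 hE hX).2 h).symm
  have hy0' : y0 ≠ 0 := fun h => cfg ((A.comm_iff S hF ha hg.2.1 hf.1 hG hX).2 h).symm
  set C := x0 • Gv + y0 • E with hC
  have hC0 : C ≠ 0 := fun h =>
    hx0' (U6.coord_eq_zero hF hPl (p := x0) (q := y0) (r := 0) (by rw [zero_smul, add_zero]; exact h)).1
  have hsp : C ∈ Submodule.span F {Gv, E, H} :=
    Submodule.mem_span_triple.2 ⟨x0, y0, 0, by rw [zero_smul, add_zero]⟩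
  have hCi : Cfsg.hermForm 6 F 2 C C = 0 := by
    have h := U6.perp_comb hF hPl x0 y0 0 x0 y0 0
    rwa [zero_smul, add_zero] at h
  obtain ⟨Cp, hCp⟩ := U6.exists_pt hF (show Isot 2 C from ⟨hC0, hCi⟩)
  obtain ⟨c, lc, rfl⟩ := A.exists_link_of_pt S hF ha hCp
  have hcB : c ∈ B := by
    rw [A.base_eq S hF ha T.base T.haB hg.2.1 he.2.1 hh.2.1 hg.1 he.1 hh.1 hG hE hH hPl]
    exact Or.inr ⟨lc, C, hCp, hsp⟩
  have cC : ∀ {q : G} (lq : q ∈ link D a) {w : Fin 6 → F}, IsPt (A.img lq) w →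
      (Commute c q ↔ x0 * Cfsg.hermForm 6 F 2 Gv w + y0 * Cfsg.hermForm 6 F 2 E w = 0) := by
    intro q lq w hw
    rw [A.comm_iff S hF ha lc lq hCp hw, hC, U6.add_left hF, U6.smul_left hF, U6.smul_left hF]
  have ccf : Commute c f := (cC hf.1 hX).2 (by rw [← hx0, ← hy0, mul_comm]; exact U6.add_self hF _)
  have ccb : ¬ Commute c b := fun h1 => by
    have hc6 := T.mem_six hcB h1.symm
    have ncg : g ≠ c := fun e' => cfg (e' ▸ ccf.symm)
    have nce : e ≠ c := fun e' => cfe (e' ▸ ccf.symm)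
    exact T.noncollinear S hF hM A hg he hc6 heg.symm ncg nce hG hE hCp
      (Submodule.mem_span_pair.2 ⟨x0, y0, rfl⟩)
  obtain ⟨Iv, hI⟩ := A.exists_pt_of_link S hF ha hi.1.1
  obtain ⟨Dv, hDv⟩ := A.exists_pt_of_link S hF ha hd.1.1
  have cci : Commute c i := (cC hi.1.1 hI).2 (by
    rw [(A.comm_iff S hF ha hg.2.1 hi.1.1 hG hI).1 hi.2.2.symm,
      (A.comm_iff S hF ha he.2.1 hi.1.1 hE hI).1 cie.symm, mul_zero, mul_zero, add_zero])
  have ccd : ¬ Commute c d := fun h1 => by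
    have h2 := (cC hd.1.1 hDv).1 h1
    rw [(A.comm_iff S hF ha hg.2.1 hd.1.1 hG hDv).1 hd.2.2.symm, mul_zero, zero_add, mul_eq_zero] at h2
    exact cde ((A.comm_iff S hF ha he.2.1 hd.1.1 hE hDv).2 (h2.resolve_left hy0')).symm
  set gen : ℕ → G := fun n => [a, b, c, d, e, f, g, h, i].getD n 1 with hgen
  have inD : ∀ n, n < 9 → gen n ∈ D := by
    intro n hn
    interval_cases n
    exacts [ha, hb, lc.1, hd.1.1.1, he.2.1.1, hf.1.1, hg.2.1.1, hh.2.1.1, hi.1.1.1]
  have cB : ∀ {p q : G}, p ∈ B → q ∈ B → Commute p q := fun hp hq => T.base.comm _ hp _ hq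
  have ca : ∀ {p : G}, p ∈ link D a → Commute a p := fun hp => hp.2.2
  have cb : ∀ {p : G}, p ∈ common D a b → Commute b p := fun hp => hp.2.2.2
  -- the commuting pairs
  have comm : ∀ p q, p < 9 → q < 9 → p ≤ q → isEdge edges p q = false → Commute (gen p) (gen q) := by
    intro p q hp hq hpq he'
    interval_cases p <;> interval_cases q <;> first
      | exact absurd he' (by decide)
      | exact Commute.refl _
      | exact ca lc
      | exact ca hd.1.1
      | exact ca he.2.1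
      | exact ca hf.1
      | exact ca hg.2.1
      | exact ca hh.2.1
      | exact ca hi.1.1
      | exact cb hd.1
      | exact cb he.2
      | exact cb hf
      | exact cb hg.2
      | exact cb hh.2
      | exact cb hi.1
      | exact cB hcB he.1
      | exact ccf
      | exact cB hcB hg.1
      | exact cB hcB hh.1
      | exact cci
      | exact hd.2.1
      | exact hd.2.2
      | exact cid.symm
      | exact cB he.1 hg.1
      | exact cB he.1 hh.1
      | exact cie.symm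
      | exact cfh
      | exact hi.2.1.symm
      | exact cB hg.1 hh.1
      | exact hi.2.2.symm
  have comm' : ∀ p q, p < 9 → q < 9 → isEdge edges p q = false → Commute (gen p) (gen q) := by
    intro p q hp hq he'
    rcases le_total p q with hpq | hpq
    · exact comm p q hp hq hpq he'
    · have hs : isEdge edges q p = false := by
        rw [← he']; interval_cases p <;> interval_cases q <;> decide
      exact (comm q p hq hp hpq hs).symm
  have nc : ∀ p q, p < 9 → q < 9 → isEdge edges p q = true → ¬ Commute (gen p) (gen q) := by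
    intro p q hp hq he'
    interval_cases p <;> interval_cases q <;> first
      | exact absurd he' (by decide)
      | exact hab
      | exact fun h => hab h.symm
      | exact ccb
      | exact fun h => ccb h.symm
      | exact ccd
      | exact fun h => ccd h.symm
      | exact cde
      | exact fun h => cde h.symm
      | exact cdh
      | exact fun h => cdh h.symm
      | exact cfe
      | exact fun h => cfe h.symm
      | exact cfg
      | exact fun h => cfg h.symm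
      | exact cih
      | exact fun h => cih h.symm
  have hne : ∀ {p q : G}, ¬ Commute p q → p ≠ q := fun h e' => h (e' ▸ Commute.refl _)
  have hceh : ∀ q ∈ link D a, Commute q c → Commute q e → Commute q h → q ∈ B := by
    intro q lq qc qe qh
    obtain ⟨w, hw⟩ := A.exists_pt_of_link S hF ha lq
    have hP2 : IsPlane C E H := by
      refine T.isPlane S hF A lc he.2.1 hh.2.1 hcB he.1 hh.1 (fun e' => cfe (e' ▸ ccf.symm)) hCp hE hH ?_
      intro hm
      obtain ⟨p, r, hpr⟩ := Submodule.mem_span_pair.1 hm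
      exact hnc (Submodule.mem_span_pair.2 ⟨p * x0, p * y0 + r, by
        rw [← hpr, hC, smul_add, smul_smul, smul_smul, add_smul]; abel⟩)
    exact T.mem_of_plane S hF A lc he.2.1 hh.2.1 lq hcB he.1 hh.1 hCp hE hH hP2 qc qe qh
  refine ⟨gen, ⟨inD, ⟨fun p hp => S.sqd (inD p hp), fun p q hp hq he' => (comm' p q hp hq he').eq,
    fun p q hp hq he' => S.tt.braid (inD p hp) (inD q hq) (nc p q hp hq he')⟩, nc, ?_, ?_, ?_, ?_⟩, rfl⟩
  · intro q hq qa qb qc qd qe qf qh
    have lq : q ∈ link D a := ⟨hq, fun e' => hab (e' ▸ qb), Commute.symm qa⟩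
    have hq6 := T.mem_six (hceh q lq qc qe qh) (Commute.symm qb)
    rcases T.le_two S hF hM hf.1 hfB hh h6 hq6 n6.symm cfh cf6 (Commute.symm qf) with e' | e'
    · exact cdh (e' ▸ Commute.symm qd)
    · exact cd6' (e' ▸ Commute.symm qd)
  · intro q hq haq qc qe qg
    have ncg : c ≠ g := fun e' => cfg (e' ▸ ccf.symm)
    have nce : c ≠ e := fun e' => cfe (e' ▸ ccf.symm)
    have mk : ∀ {p : G}, p ∈ link D a → Commute q p → p ∈ common D a q := fun {p} hp hc =>
      ⟨hp, hp.1, fun e' => haq (e' ▸ hp.2.2), hc⟩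
    exact not_collinear S hF hM ha hq haq (mk hg.2.1 qg) (mk he.2.1 qe) (mk lc qc) (cB hg.1 he.1)
      (cB hg.1 hcB) (cB he.1 hcB) heg.symm ncg.symm nce.symm A hG hE hCp
      (Submodule.mem_span_pair.2 ⟨x0, y0, rfl⟩)
  · intro q hq qa qb qc qd qe qh
    have lq : q ∈ link D a := ⟨hq, fun e' => hab (e' ▸ qb), Commute.symm qa⟩
    have hq6 := T.mem_six (hceh q lq qc qe qh) (Commute.symm qb)
    rcases T.le_two S hF hM hd.1.1 hdB hg hk hq6 hkg.symm hd.2.2 cdk (Commute.symm qd) with e' | e'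
    · exact Or.inl e'
    · exact Or.inr fun h1 => cik (e' ▸ h1 : Commute k i).symm
  · intro p r hp hr
    have h3 := bases_three S hF hM ha hp hr
    obtain ⟨B', hB', hne'⟩ := Set.exists_ne_of_one_lt_ncard (s := {B | IsBase D B ∧ a ∈ B ∧ p ∈ B ∧ r ∈ B})
      (by rw [h3]; norm_num) B
    obtain ⟨hB'b, haB', hpB', hrB'⟩ := hB'
    obtain ⟨w, hw, hwB⟩ : ∃ w ∈ B', w ∉ B := by
      by_contra hcon
      push Not at hcon
      exact hne' (Set.eq_of_subset_of_ncard_le hcon (by rw [T.base.card, hB'b.card]) (Set.toFinite _))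
    have lw : w ∈ link D a :=
      ⟨hB'b.sub hw, fun e' => hwB (e' ▸ T.haB), hB'b.comm a haB' w hw⟩
    refine ⟨w, lw, hB'b.comm w hw p hpB', hB'b.comm w hw r hrB', fun hcom => hwB ?_⟩
    change Commute w (c * e * h * g) at hcom
    obtain ⟨W, hW⟩ := A.exists_pt_of_link S hF ha lw
    obtain ⟨l1, v1⟩ := A.conj_vec S hF lw hg.2.1 hW hG
    obtain ⟨l2, v2⟩ := A.conj_vec S hF l1 hh.2.1 v1 hH
    obtain ⟨l3, v3⟩ := A.conj_vec S hF l2 he.2.1 v2 hE
    obtain ⟨l4, v4⟩ := A.conj_vec S hF l3 lc v3 hCp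
    have hfix : c * (e * (h * (g * w * g) * h) * e) * c = w := by
      have hi4 : (c * e * h * g)⁻¹ = g * h * e * c := by
        simp only [mul_inv_rev, S.tt.inv_eq lc.1, S.tt.inv_eq he.2.1.1, S.tt.inv_eq hh.2.1.1,
          S.tt.inv_eq hg.2.1.1, mul_assoc]
      calc c * (e * (h * (g * w * g) * h) * e) * c = (c * e * h * g) * w * (g * h * e * c) := by
            simp only [mul_assoc]
        _ = w := by rw [← hi4, ← hcom.eq, mul_inv_cancel_right]
    have himg : A.img l4 = A.img lw := congrArg A.ψ (Subtype.ext hfix)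
    rw [himg] at v4
    obtain ⟨mu, -, hmu⟩ := IsPt.span_eq hF hW v4
    have pe : ∀ {u v : G} (lu : u ∈ link D a) (lv : v ∈ link D a) {s t : Fin 6 → F}, IsPt (A.img lu) s →
        IsPt (A.img lv) t → u ∈ B → v ∈ B → Cfsg.hermForm 6 F 2 s t = 0 :=
      fun lu lv _ _ hs ht hu hv => (A.comm_iff S hF ha lu lv hs ht).1 (cB hu hv)
    simp only [U6.add_left hF, U6.smul_left hF, pe hg.2.1 hh.2.1 hG hH hg.1 hh.1,
      pe hg.2.1 he.2.1 hG hE hg.1 he.1, pe hg.2.1 lc hG hCp hg.1 hcB, pe hh.2.1 he.2.1 hH hE hh.1 he.1,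
      pe hh.2.1 lc hH hCp hh.1 hcB, pe he.2.1 lc hE hCp he.1 hcB, mul_zero, add_zero] at hmu
    rcases Y332.four_fixed hF hPl hx0' hy0' (w := W) (mu := mu) (by rw [← hmu]; abel) with
      ⟨p', q', r', e'⟩ | ⟨k1, k2, k3⟩
    · rw [A.base_eq S hF ha T.base T.haB hg.2.1 he.2.1 hh.2.1 hg.1 he.1 hh.1 hG hE hH hPl]
      exact Or.inr ⟨lw, W, hW, e' ▸ Submodule.mem_span_triple.2 ⟨p', q', r', rfl⟩⟩
    · exact T.mem_of_plane S hF A hg.2.1 he.2.1 hh.2.1 lw hg.1 he.1 hh.1 hG hE hH hPl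
        ((A.comm_iff S hF ha lw hg.2.1 hW hG).2 k1) ((A.comm_iff S hF ha lw he.2.1 hW hE).2 k2)
        ((A.comm_iff S hF ha lw hh.2.1 hW hH).2 k3)

end CfsgLib.M22
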