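import Cfsg.Agent.Lib.ThreeTransp.U6Perp
import Cfsg.Agent.Lib.ThreeTransp.U6Lines

/-!
# Linear algebra in the six dimensional hermitian space over the field with four elements

Three orthogonal hyperbolic pairs span; an isometry fixing five independent lines with one eigenvalue is a
scalar or a scalar times a transvection; the fixed points of a product of four transvections in a plane.
-/

set_option autoImplicit false
set_option linter.unusedSectionVars false

namespace CfsgLib.Y332

open Matrix Cfsg
open CfsgLib.U6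
open CfsgLib.PSUAut

variable {F : Type} [Field F] [Fintype F]

local notation "V6" => Fin 6 → F
local notation "H6" => Cfsg.hermForm 6 F 2
local notation "SU6" => (Cfsg.SU 6 F 2)

variable (hF : Fintype.card F = 2 ^ 2)
include hF

theorem eq_zero_of_perp6 {u : V6} (hu : ∀ y, H6 y u = 0) : u = 0 := by
  obtain ⟨σ, hσ⟩ := exists_sigma hF
  exact eq_zero_of_perp hF hσ hu

theorem top_perp {v : Fin 6 → V6} (li : LinearIndependent F v) {z : V6} (hz : ∀ i, H6 (v i) z = 0) :
    z = 0 := by
  have htop := li.span_eq_top_of_card_eq_finrank (by simp)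
  refine eq_zero_of_perp6 hF fun y => ?_
  have hy : y ∈ Submodule.span F (Set.range v) := htop ▸ Submodule.mem_top
  induction hy using Submodule.span_induction with
  | mem x hx => obtain ⟨i, rfl⟩ := hx; exact hz i
  | zero => exact U6.zero_left hF z
  | add x y _ _ h1 h2 => rw [U6.add_left hF, h1, h2, add_zero]
  | smul r x _ h => rw [U6.smul_left hF, h, mul_zero]

/-- Three orthogonal hyperbolic pairs span. -/
theorem eq_zero_of_six {A B X E N M z : V6} (hA : H6 A A = 0) (hB : H6 B B = 0) (hX : H6 X X = 0)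
    (hE : H6 E E = 0) (hN : H6 N N = 0) (hM : H6 M M = 0) (hAB : H6 A B ≠ 0) (hXE : H6 X E ≠ 0)
    (hNM : H6 N M ≠ 0) (hXA : H6 X A = 0) (hXB : H6 X B = 0) (hEA : H6 E A = 0) (hEB : H6 E B = 0)
    (hNA : H6 N A = 0) (hNB : H6 N B = 0) (hNX : H6 N X = 0) (hNE : H6 N E = 0)
    (hMA : H6 M A = 0) (hMB : H6 M B = 0) (hMX : H6 M X = 0) (hME : H6 M E = 0)
    (z1 : H6 A z = 0) (z2 : H6 B z = 0) (z3 : H6 X z = 0) (z4 : H6 E z = 0) (z5 : H6 N z = 0)
    (z6 : H6 M z = 0) : z = 0 := by
  have c := fun {u v : V6} (h : H6 u v = 0) => (comm_zero hF).1 h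
  have hBA : H6 B A ≠ 0 := fun h => hAB (c h)
  have hEX : H6 E X ≠ 0 := fun h => hXE (c h)
  have hMN : H6 M N ≠ 0 := fun h => hNM (c h)
  refine top_perp hF (v := ![A, B, X, E, N, M]) (Fintype.linearIndependent_iff.2 fun f hf => ?_) fun i => by
    fin_cases i
    exacts [z1, z2, z3, z4, z5, z6]
  rw [Fin.sum_univ_six] at hf
  have p : ∀ w, H6 (f 0 • A + f 1 • B + f 2 • X + f 3 • E + f 4 • N + f 5 • M) w = 0 := fun w => by
    change f 0 • A + f 1 • B + f 2 • X + f 3 • E + f 4 • N + f 5 • M = 0 at hf
    rw [hf]; exact U6.zero_left hF w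
  have k := fun w => p w
  simp only [U6.add_left hF, U6.smul_left hF] at k
  have k1 := k B
  have k0 := k A
  have k3 := k X
  have k2 := k E
  have k5 := k N
  have k4 := k M
  simp only [hA, hB, hX, hE, hN, hM, hXA, hXB, hEA, hEB, hNA, hNB, hNX, hNE, hMA, hMB, hMX, hME, c hXA, c hXB,
    c hEA, c hEB, c hNA, c hNB, c hNX, c hNE, c hMA, c hMB, c hMX, c hME, mul_zero, add_zero, zero_add,
    mul_eq_zero, hAB, hBA, hXE, hEX, hNM, hMN, or_false] at k0 k1 k2 k3 k4 k5
  intro i
  fin_cases i
  exacts [k1, k0, k2, k3, k4, k5]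

/-- The orthogonal of five independent vectors is the line of any of its non-zero vectors. -/
theorem perp_five {v : Fin 5 → V6} (li : LinearIndependent F v) {n : V6} (hn : n ≠ 0)
    (hnv : ∀ i, H6 n (v i) = 0) {y : V6} (hy : ∀ i, H6 y (v i) = 0) : ∃ r : F, y = r • n := by
  obtain ⟨σ, hσ⟩ := exists_sigma hF
  have h : y ∈ Submodule.span F {n} := by
    refine mem_span_single_of_perp hF hσ fun w hw => ?_
    have hw' : w ∈ Submodule.span F (Set.range v) := by
      by_contra hnot
      refine hn (top_perp hF (v := Fin.cons w v) (linearIndependent_finCons.2 ⟨li, hnot⟩) fun i => ?_)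
      refine Fin.cases ?_ (fun j => ?_) i
      · simpa using hw
      · simpa using (comm_zero hF).1 (hnv j)
    clear hw
    induction hw' using Submodule.span_induction with
    | mem x hx => obtain ⟨i, rfl⟩ := hx; exact (comm_zero hF).1 (hy i)
    | zero => exact U6.zero_left hF y
    | add x z _ _ h1 h2 => rw [U6.add_left hF, h1, h2, add_zero]
    | smul r x _ h => rw [U6.smul_left hF, h, mul_zero]
  obtain ⟨r, hr⟩ := Submodule.mem_span_singleton.1 h
  exact ⟨r, hr.symm⟩

/-- The eigenvalues at two non-orthogonal eigenvectors agree. -/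
theorem eigen_eq {g : SU6} {u v : V6} {lam mu : F} (hu : act g u = lam • u) (hv : act g v = mu • v)
    (huv : H6 u v ≠ 0) : lam = mu := by
  have h := act_form g u v
  rw [hu, hv, U6.smul_left hF, U6.smul_right hF] at h
  have h1 : lam * mu ^ 2 = 1 := mul_right_cancel₀ huv (by linear_combination h)
  have hm : mu ≠ 0 := fun e => by rw [e] at h1; simp at h1
  calc lam = lam * mu ^ 3 := by rw [cube_eq_one hF hm, mul_one]
    _ = lam * mu ^ 2 * mu := by ring
    _ = mu := by rw [h1, one_mul]

/-- An isometry with one eigenvalue on five independent vectors is a scalar or a scalar times the transvection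
at the vector orthogonal to them. -/
theorem scalar_or_transvection {g : SU6} {v : Fin 5 → V6} (li : LinearIndependent F v) {lam : F}
    (hlam : lam ≠ 0) (hv : ∀ i, act g (v i) = lam • v i) {n : V6} (hn : n ≠ 0)
    (hnv : ∀ i, H6 n (v i) = 0) (hnn : H6 n n = 0) :
    (∀ w, act g w = lam • w) ∨ ∀ w, act g w = lam • (w + H6 w n • n) := by
  have := charTwo hF
  obtain ⟨σ, hσ⟩ := exists_sigma hF
  have h3 : lam ^ 3 = 1 := cube_eq_one hF hlam
  have hy : ∀ x, ∃ r : F, act g x = lam • x + r • n := by
    intro x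
    obtain ⟨r, hr⟩ := perp_five hF li hn hnv (y := act g x + lam • x) fun i => by
      have h := act_form g x (v i)
      rw [hv, U6.smul_right hF] at h
      rw [U6.add_left hF, U6.smul_left hF]
      have e : H6 (act g x) (v i) = lam * H6 x (v i) := by
        calc H6 (act g x) (v i) = lam ^ 3 * H6 (act g x) (v i) := by rw [h3, one_mul]
          _ = lam * (lam ^ 2 * H6 (act g x) (v i)) := by ring
          _ = _ := by rw [h]
      rw [e]
      exact U6.add_self hF _
    exact ⟨r, by rw [← hr, add_left_comm, U6.vadd_self hF, add_zero]⟩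
  choose r hr using hy
  have key : ∀ x y, r x * lam ^ 2 * H6 n y + lam * r y ^ 2 * H6 x n = 0 := by
    intro x y
    have h := act_form g x y
    rw [hr, hr] at h
    simp only [U6.add_left hF, U6.add_right hF, U6.smul_left hF, U6.smul_right hF, hnn] at h
    linear_combination h - H6 x y * h3
  obtain ⟨y₀, hy₀⟩ := exists_partner hF hσ hn
  have hk : ∀ x, r x = lam ^ 2 * r y₀ ^ 2 * H6 x n := by
    intro x
    have h := key x y₀
    rw [comm_one hF hy₀, mul_one] at h
    have h' := CharTwo.add_eq_zero.1 h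
    calc r x = r x * lam ^ 3 := by rw [h3, mul_one]
      _ = lam * (r x * lam ^ 2) := by ring
      _ = _ := by rw [h']; ring
  have h0 : r y₀ * (lam ^ 2 * r y₀ - 1) = 0 := by
    have h := hk y₀
    rw [hy₀] at h
    linear_combination -h
  rcases mul_eq_zero.1 h0 with h | h
  · exact Or.inl fun w => by rw [hr, hk, h]; simp
  · right
    intro w
    have e : r y₀ = lam := by linear_combination lam * h - r y₀ * h3
    rw [hr, hk, e, smul_add, smul_smul, show lam ^ 2 * lam ^ 2 * H6 w n = lam * H6 w n by
      linear_combination lam * H6 w n * h3]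

/-- What is fixed by the product of the transvections at three independent points of a plane and at a point
of the line of two of them lies in the plane. -/
theorem four_fixed {G E K w : V6} (P : IsPlane G E K) {x y mu : F} (hx : x ≠ 0) (hy : y ≠ 0)
    (h : w + H6 w (x • G + y • E) • (x • G + y • E) + H6 w E • E + H6 w K • K + H6 w G • G = mu • w) :
    (∃ p q r : F, w = p • G + q • E + r • K) ∨ (H6 w G = 0 ∧ H6 w E = 0 ∧ H6 w K = 0) := by
  have := charTwo hF
  have hx3 : x ^ 3 = 1 := cube_eq_one hF hx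
  have hy3 : y ^ 3 = 1 := cube_eq_one hF hy
  have hc : H6 w (x • G + y • E) = x ^ 2 * H6 w G + y ^ 2 * H6 w E := by
    rw [U6.add_right hF, U6.smul_right hF, U6.smul_right hF]
  rw [hc] at h
  by_cases hmu : mu = 1
  · right
    rw [hmu, one_smul] at h
    obtain ⟨e1, e2, e3⟩ := U6.coord_eq_zero hF P (p := (x ^ 2 * H6 w G + y ^ 2 * H6 w E) * x + H6 w G)
      (q := (x ^ 2 * H6 w G + y ^ 2 * H6 w E) * y + H6 w E) (r := H6 w K)
      (by linear_combination (norm := module) h)
    have two : (2 : F) = 0 := CharTwo.two_eq_zero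
    have hE : x * y ^ 2 * H6 w E = 0 := by linear_combination e1 - H6 w G * hx3 - H6 w G * two
    have hG : x ^ 2 * y * H6 w G = 0 := by linear_combination e2 - H6 w E * hy3 - H6 w E * two
    simp only [mul_eq_zero, pow_eq_zero_iff two_ne_zero, hx, hy, false_or, or_false] at hE hG
    exact ⟨hG, hE, e3⟩
  · left
    have hne : mu - 1 ≠ 0 := sub_ne_zero.2 hmu
    refine ⟨(mu - 1)⁻¹ * ((x ^ 2 * H6 w G + y ^ 2 * H6 w E) * x + H6 w G),
      (mu - 1)⁻¹ * ((x ^ 2 * H6 w G + y ^ 2 * H6 w E) * y + H6 w E), (mu - 1)⁻¹ * H6 w K, ?_⟩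
    rw [← smul_smul, ← smul_smul, ← smul_smul, ← smul_add, ← smul_add, eq_inv_smul_iff₀ hne]
    linear_combination (norm := module) -h

end CfsgLib.Y332
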