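import Cfsg.Agent.Lib.FischerPair.M22
import Cfsg.Agent.Lib.ThreeTransp.M22Base
import Cfsg.Agent.Lib.ThreeTransp.M22Y332.Linear
import Cfsg.Agent.Lib.ThreeTransp.M22Y332.Chain

/-!
# Groups of type `M(22)`: common neighbours of two non-commuting pairs

For non-commuting `a`, `b` and non-commuting common neighbours `x`, `g` the set `Quad` of common neighbours of
all four has eighteen members; a member has three neighbours in it, pairwise non-commuting; two commuting
members of it are joined by no further edge pattern than the one forced.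
-/

set_option autoImplicit false
set_option linter.unusedSectionVars false

namespace CfsgLib.M22

open CfsgLib.ThreeTransp CfsgLib.SporMisc CfsgLib.FischerPair
open CfsgLib.U6 (IsPt IsPlane)
open CfsgLib.PSUAut (Isot)

variable {G : Type*} [Group G]

/-- The common neighbours of `a`, `b`, `x`, `g`. -/
def quad (D : Set G) (a b x g : G) : Set G := {u | u ∈ common D a b ∧ Commute u x ∧ Commute u g}

/-- Two non-commuting members with two non-commuting common neighbours. -/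
structure Quad (D : Set G) (a b x g : G) : Prop where
  ha : a ∈ D
  hb : b ∈ D
  hab : ¬ Commute a b
  hx : x ∈ common D a b
  hg : g ∈ common D a b
  hxg : ¬ Commute x g

variable {D : Set G}

/-- The members of `quad` lie in the links of the four. -/
theorem Quad.links {a b x g u : G} (Q : Quad D a b x g) (hu : u ∈ quad D a b x g) :
    a ∈ link D u ∧ b ∈ link D u ∧ x ∈ link D u ∧ g ∈ link D u :=
  ⟨link_swap Q.ha hu.1.1, link_swap Q.hb hu.1.2,
    ⟨Q.hx.1.1, fun h => Q.hxg (h ▸ hu.2.2), hu.2.1⟩, ⟨Q.hg.1.1, fun h => Q.hxg (h ▸ hu.2.1).symm, hu.2.2⟩⟩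

variable [Finite G] (S : Setup D) {F : Type} [Field F] [Fintype F] (hF : Fintype.card F = 2 ^ 2)
  (hM : ∀ a ∈ D, Nonempty (Model D a F))
include S hF hM

/-- Commuting common neighbours of a non-commuting pair are not collinear. -/
theorem not_collinear {a b p q r : G} (ha : a ∈ D) (hb : b ∈ D) (hnc : ¬ Commute a b)
    (hp : p ∈ common D a b) (hq : q ∈ common D a b) (hr : r ∈ common D a b) (hpq : Commute p q)
    (hpr : Commute p r) (hqr : Commute q r) (npq : p ≠ q) (npr : p ≠ r) (nqr : q ≠ r)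
    (A : Model D a F) {P Q R : Fin 6 → F} (hP : IsPt (A.img hp.1) P) (hQ : IsPt (A.img hq.1) Q)
    (hR : IsPt (A.img hr.1) R) : R ∉ Submodule.span F {P, Q} := by
  classical
  intro hspan
  obtain ⟨s, t, u, hnd, hmem, hcomm, hprod⟩ :=
    exists_five S hF hM ha hp.1 (c := q) ⟨hq.1, hq.1.1, npq.symm, hpq⟩
  have ls := hmem s (by simp)
  have lt := hmem t (by simp)
  have lu := hmem u (by simp)
  have lp : p ∈ link D a := hp.1
  have lq : q ∈ link D a := hq.1
  -- in the link of `a` the five are the line of `p` and `q`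
  obtain ⟨U₂, hU₂⟩ := A.exists_pt_of_link S hF ha ls
  obtain ⟨U₃, hU₃⟩ := A.exists_pt_of_link S hF ha lt
  obtain ⟨U₄, hU₄⟩ := A.exists_pt_of_link S hF ha lu
  have cm : ∀ {e f : G} (le : e ∈ link D a) (lf : f ∈ link D a) {v w : Fin 6 → F}, IsPt (A.img le) v →
      IsPt (A.img lf) w → e ∈ [p, q, s, t, u] → f ∈ [p, q, s, t, u] → Cfsg.hermForm 6 F 2 v w = 0 :=
    fun le lf _ _ hv hw he hf => (A.comm_iff S hF ha le lf hv hw).1 (hcomm _ he _ hf)
  have himg : A.img lp * A.img lq * A.img ls * A.img lt * A.img lu = 1 := by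
    simp only [Model.img, ← map_mul]
    exact (A.ker _).2 (mem_center_of_commute (hx := mul_mem (mul_mem (mul_mem (mul_mem
      (Subgroup.subset_closure lp) (Subgroup.subset_closure lq)) (Subgroup.subset_closure ls))
      (Subgroup.subset_closure lt)) (Subgroup.subset_closure lu)) fun y hy => by rw [hprod]; exact hy.2.2)
  obtain ⟨m2, m3, m4⟩ := U6.five_on_line hF hP hQ hU₂ hU₃ hU₄
    (fun e => npq (A.img_inj S ha lp lq e))
    (cm lq lp hQ hP (by simp) (by simp)) (cm ls lp hU₂ hP (by simp) (by simp))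
    (cm ls lq hU₂ hQ (by simp) (by simp)) (cm lt lp hU₃ hP (by simp) (by simp))
    (cm lt lq hU₃ hQ (by simp) (by simp)) (cm lt ls hU₃ hU₂ (by simp) (by simp))
    (cm lu lp hU₄ hP (by simp) (by simp)) (cm lu lq hU₄ hQ (by simp) (by simp))
    (cm lu ls hU₄ hU₂ (by simp) (by simp)) (cm lu lt hU₄ hU₃ (by simp) (by simp)) himg
  set L := {e | ∃ (le : e ∈ link D a) (w : Fin 6 → F), IsPt (A.img le) w ∧ w ∈ Submodule.span F {P, Q}} with hL
  have hsub : (↑([p, q, s, t, u].toFinset) : Set G) ⊆ L := by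
    intro e he
    simp only [Finset.mem_coe, List.mem_toFinset, List.mem_cons, List.not_mem_nil, or_false] at he
    rcases he with rfl | rfl | rfl | rfl | rfl
    exacts [⟨lp, P, hP, Submodule.subset_span (Set.mem_insert _ _)⟩,
      ⟨lq, Q, hQ, Submodule.subset_span (Set.mem_insert_of_mem _ rfl)⟩,
      ⟨ls, U₂, hU₂, m2⟩, ⟨lt, U₃, hU₃, m3⟩, ⟨lu, U₄, hU₄, m4⟩]
  have h5 : L.ncard = 5 := A.line_count S hF ha lp lq hP hQ hpq npq
  have heq := Set.eq_of_subset_of_ncard_le hsub (by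
    rw [h5, Set.ncard_coe_finset, List.toFinset_card_of_nodup hnd]; rfl) (Set.toFinite _)
  have hr5 : r ∈ [s, t, u] := by
    have h : r ∈ L := ⟨hr.1, R, hR, hspan⟩
    rw [← heq] at h
    simp only [Finset.mem_coe, List.mem_toFinset, List.mem_cons, List.not_mem_nil, or_false] at h ⊢
    rcases h with h | h | h | h | h
    exacts [absurd h.symm npr, absurd h.symm nqr, Or.inl h, Or.inr (Or.inl h), Or.inr (Or.inr h)]
  -- in the link of `p` the line of `q` and `a` contains `r`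
  have hpD := hp.1.1
  obtain ⟨X⟩ := hM p hpD
  have la' := link_swap ha hp.1
  have lb' := link_swap hb hp.2
  have lin : ∀ e ∈ [q, s, t, u], e ∈ link D p := by
    intro e he
    have he5 : e ∈ [p, q, s, t, u] := List.mem_cons_of_mem _ he
    refine ⟨(hmem e he5).1, fun h => ?_, hcomm p (by simp) e he5⟩
    exact (List.nodup_cons.1 hnd).1 (h ▸ he)
  have lq' := lin q (by simp)
  have ls' := lin s (by simp)
  have lt' := lin t (by simp)
  have lu' := lin u (by simp)
  obtain ⟨A', hA'⟩ := X.exists_pt_of_link S hF hpD la'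
  obtain ⟨B', hB'⟩ := X.exists_pt_of_link S hF hpD lb'
  obtain ⟨Q', hQ'⟩ := X.exists_pt_of_link S hF hpD lq'
  obtain ⟨V₂, hV₂⟩ := X.exists_pt_of_link S hF hpD ls'
  obtain ⟨V₃, hV₃⟩ := X.exists_pt_of_link S hF hpD lt'
  obtain ⟨V₄, hV₄⟩ := X.exists_pt_of_link S hF hpD lu'
  have caa : ∀ e ∈ [q, s, t, u], Commute a e := fun e he => (hmem e (List.mem_cons_of_mem _ he)).2.2
  have cm' : ∀ {e f : G} (le : e ∈ link D p) (lf : f ∈ link D p) {v w : Fin 6 → F}, IsPt (X.img le) v →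
      IsPt (X.img lf) w → e ∈ [q, s, t, u] → f ∈ [q, s, t, u] → Cfsg.hermForm 6 F 2 v w = 0 :=
    fun le lf _ _ hv hw he hf => (X.comm_iff S hF hpD le lf hv hw).1
      (hcomm _ (List.mem_cons_of_mem _ he) _ (List.mem_cons_of_mem _ hf))
  have ca' : ∀ {e : G} (le : e ∈ link D p) {v : Fin 6 → F}, IsPt (X.img le) v → e ∈ [q, s, t, u] →
      Cfsg.hermForm 6 F 2 v A' = 0 :=
    fun le _ hv he => (X.comm_iff S hF hpD le la' hv hA').1 (caa _ he).symm
  have hp' : q * a * s * t * u = p := by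
    have hpp := S.sqd hpD
    calc q * a * s * t * u = a * (q * s * t * u) := by
          rw [show q * a = a * q from (caa q (by simp)).eq.symm]; simp only [mul_assoc]
      _ = p * q * s * t * u * (q * s * t * u) := by rw [hprod]
      _ = p * ((q * s * t * u) * (q * s * t * u)) := by simp only [mul_assoc]
      _ = p := by
        have c := fun (e f : G) he hf => hcomm e he f hf
        have e1 : (q * s * t * u) * (q * s * t * u) = (q * q) * (s * s) * (t * t) * (u * u) := by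
          have c1 : Commute (q * s * t) u :=
            ((c q u (by simp) (by simp)).mul_left (c s u (by simp) (by simp))).mul_left (c t u (by simp) (by simp))
          have c2 : Commute (q * s) t := (c q t (by simp) (by simp)).mul_left (c s t (by simp) (by simp))
          rw [← pow_two, ← pow_two, ← pow_two, ← pow_two, ← pow_two, c1.mul_pow, c2.mul_pow,
            (c q s (by simp) (by simp)).mul_pow]
        rw [e1, S.sqd lq.1, S.sqd ls.1, S.sqd lt.1, S.sqd lu.1]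
        simp
  have himg' : X.img lq' * X.img la' * X.img ls' * X.img lt' * X.img lu' = 1 := by
    simp only [Model.img, ← map_mul]
    exact (X.ker _).2 (mem_center_of_commute (hx := mul_mem (mul_mem (mul_mem (mul_mem
      (Subgroup.subset_closure lq') (Subgroup.subset_closure la')) (Subgroup.subset_closure ls'))
      (Subgroup.subset_closure lt')) (Subgroup.subset_closure lu')) fun y hy => by rw [hp']; exact hy.2.2)
  have nqa : q ≠ a := lq.2.1
  obtain ⟨k2, k3, k4⟩ := U6.five_on_line hF hQ' hA' hV₂ hV₃ hV₄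
    (fun e => nqa (X.img_inj S hpD lq' la' e))
    ((U6.comm_zero hF).1 (ca' lq' hQ' (by simp))) (cm' ls' lq' hV₂ hQ' (by simp) (by simp))
    (ca' ls' hV₂ (by simp)) (cm' lt' lq' hV₃ hQ' (by simp) (by simp))
    (ca' lt' hV₃ (by simp)) (cm' lt' ls' hV₃ hV₂ (by simp) (by simp))
    (cm' lu' lq' hV₄ hQ' (by simp) (by simp)) (ca' lu' hV₄ (by simp))
    (cm' lu' ls' hV₄ hV₂ (by simp) (by simp)) (cm' lu' lt' hV₄ hV₃ (by simp) (by simp)) himg'
  have lr' : r ∈ link D p := ⟨hr.1.1, npr.symm, hpr⟩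
  obtain ⟨R', hR', sR'⟩ : ∃ R', IsPt (X.img lr') R' ∧ R' ∈ Submodule.span F {Q', A'} := by
    simp only [List.mem_cons, List.not_mem_nil, or_false] at hr5
    rcases hr5 with rfl | rfl | rfl
    exacts [⟨V₂, hV₂, k2⟩, ⟨V₃, hV₃, k3⟩, ⟨V₄, hV₄, k4⟩]
  obtain ⟨x, y, rfl⟩ := Submodule.mem_span_pair.1 sR'
  have hrb := (X.comm_iff S hF hpD lr' lb' hR' hB').1 hr.2.2.2.symm
  have hqb := (X.comm_iff S hF hpD lq' lb' hQ' hB').1 hq.2.2.2.symm
  rw [U6.add_left hF, U6.smul_left hF, U6.smul_left hF, hqb, mul_zero, zero_add, mul_eq_zero] at hrb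
  rcases hrb with hy | hy
  · rw [hy, zero_smul, add_zero] at hR'
    exact nqr (X.img_inj S hpD lq' lr' (IsPt.eq_of_smul hF hQ' hR' (a := x) rfl))
  · exact hnc ((X.comm_iff S hF hpD la' lb' hA' hB').2 hy)

omit hF hM in
/-- `quad` is closed under conjugation by its members. -/
theorem quad_conj {a b x g u v : G} (Q : Quad D a b x g) (hu : u ∈ quad D a b x g) (hv : v ∈ quad D a b x g) :
    u * v * u ∈ quad D a b x g := by
  have h := dSub_conj_mem (D := D) S.tt (a := a) (d := b) (k := u) hu.1.1.2.2.symm hu.1.2.2.2.symm hv.1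
  rw [S.tt.inv_eq hu.1.1.1] at h
  exact ⟨h, (hu.2.1.mul_left hv.2.1).mul_left hu.2.1, (hu.2.2.mul_left hv.2.2).mul_left hu.2.2⟩

theorem quad_le {a b x g x' g' : G} (Q : Quad D a b x g) (Q' : Quad D a b x' g') :
    (quad D a b x g).ncard ≤ (quad D a b x' g').ncard := by
  obtain ⟨k, hk, e1, e2⟩ := common_pair_trans S hF hM Q.ha Q.hb Q.hab Q.hx Q.hg Q.hxg Q'.hx Q'.hg Q'.hxg
  refine Set.ncard_le_ncard_of_injOn (fun u => k * u * k⁻¹) (fun u hu => ?_)
    (fun u _ v _ h => by simpa using h) (Set.toFinite _)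
  refine ⟨dSub_conj_mem S.tt (dSub_commute hk).1 (dSub_commute hk).2 hu.1, ?_, ?_⟩
  · exact e1 ▸ (Commute.conj_iff k).2 hu.2.1
  · exact e2 ▸ (Commute.conj_iff k).2 hu.2.2

/-- Eighteen members commute with two non-commuting pairs. -/
theorem quad_ncard {a b x g : G} (Q : Quad D a b x g) : (quad D a b x g).ncard = 18 := by
  have h45 := link_three_ncard S hF hM Q.ha Q.hb Q.hab Q.hx.1 Q.hx.2
  set s := link D a ∩ link D b ∩ link D x with hs
  set t := {h | h ∈ common D a b ∧ ¬ Commute x h} with ht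
  have ht80 : t.ncard = 80 := by
    have e : t = common D a b \ insert x s := by
      ext h
      constructor
      · rintro ⟨hh, hxh⟩
        exact ⟨hh, fun h' => hxh (by rcases h' with rfl | h'; exacts [Commute.refl _, h'.2.2.2])⟩
      · rintro ⟨hh, hn⟩
        refine ⟨hh, fun hc => hn ?_⟩
        by_cases hx : h = x
        · exact Or.inl hx
        · exact Or.inr ⟨⟨hh.1, hh.2⟩, hh.1.1, hx, hc⟩
    rw [e, Set.ncard_sdiff (Set.insert_subset Q.hx (fun y hy => ⟨hy.1.1, hy.1.2⟩)),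
      Set.ncard_insert_of_notMem (fun h => h.2.2.1 rfl), h45,
      show (common D a b).ncard = 126 from (nonlink_count S hF hM Q.ha Q.hb Q.hab).2]
  have hcount := count_pairs (s := s) (t := t) (fun u h => Commute u h) (m := 32) (n := (quad D a b x g).ncard)
    (fun u hu => by
      have huD := hu.1.1.1
      have lxu : x ∈ link D a ∩ link D b ∩ link D u := ⟨⟨Q.hx.1, Q.hx.2⟩, link_swap Q.hx.1.1 hu.2⟩
      have e : {h | h ∈ t ∧ Commute u h} =
          (link D a ∩ link D b ∩ link D u) \ insert x (link D a ∩ link D b ∩ link D u ∩ link D x) := by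
        ext h
        constructor
        · rintro ⟨⟨hh, hxh⟩, huh⟩
          refine ⟨⟨⟨hh.1, hh.2⟩, hh.1.1, fun e => hxh (e ▸ hu.2.2.2), huh⟩, fun h' => hxh ?_⟩
          rcases h' with rfl | h'
          exacts [Commute.refl _, h'.2.2.2]
        · rintro ⟨hh, hn⟩
          refine ⟨⟨⟨hh.1.1, hh.1.2⟩, fun hc => hn ?_⟩, hh.2.2.2⟩
          by_cases hx : h = x
          · exact Or.inl hx
          · exact Or.inr ⟨hh, hh.1.1.1, hx, hc⟩
      rw [e, Set.ncard_sdiff (Set.insert_subset lxu Set.inter_subset_left),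
        Set.ncard_insert_of_notMem (fun h => h.2.2.1 rfl),
        link_three_ncard S hF hM Q.ha Q.hb Q.hab hu.1.1 hu.1.2,
        link_four_ncard S hF hM Q.ha Q.hb Q.hab hu.1.1 hu.1.2 lxu])
    (fun h hh => by
      have Q' : Quad D a b x h := ⟨Q.ha, Q.hb, Q.hab, Q.hx, hh.1, hh.2⟩
      rw [le_antisymm (quad_le S hF hM Q Q') (quad_le S hF hM Q' Q)]
      congr 1
      ext u
      exact ⟨fun ⟨hu, huh⟩ => ⟨⟨hu.1.1, hu.1.2⟩, hu.2.2.2.symm, huh⟩,
        fun ⟨hu, hux, huh⟩ => ⟨⟨⟨hu.1, hu.2⟩, hu.1.1, fun e => hh.2 (e ▸ huh), hux.symm⟩, huh⟩⟩)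
  rw [h45, ht80] at hcount
  omega

omit hM in
/-- The vectors of the four in the link of a member of `quad`. -/
theorem Quad.frame {a b x g v : G} (Q : Quad D a b x g) (hv : v ∈ quad D a b x g) (V : Model D v F) :
    ∃ A B X E : Fin 6 → F, IsPt (V.img (Q.links hv).1) A ∧ IsPt (V.img (Q.links hv).2.1) B ∧
      IsPt (V.img (Q.links hv).2.2.1) X ∧ IsPt (V.img (Q.links hv).2.2.2) E ∧
      Cfsg.hermForm 6 F 2 A B ≠ 0 ∧ Cfsg.hermForm 6 F 2 X E ≠ 0 ∧ Cfsg.hermForm 6 F 2 X A = 0 ∧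
      Cfsg.hermForm 6 F 2 X B = 0 ∧ Cfsg.hermForm 6 F 2 E A = 0 ∧ Cfsg.hermForm 6 F 2 E B = 0 := by
  have hvD := hv.1.1.1
  obtain ⟨la, lb, lx, lg⟩ := Q.links hv
  obtain ⟨A, hA⟩ := V.exists_pt_of_link S hF hvD la
  obtain ⟨B, hB⟩ := V.exists_pt_of_link S hF hvD lb
  obtain ⟨X, hX⟩ := V.exists_pt_of_link S hF hvD lx
  obtain ⟨E, hE⟩ := V.exists_pt_of_link S hF hvD lg
  exact ⟨A, B, X, E, hA, hB, hX, hE, fun h => Q.hab ((V.comm_iff S hF hvD la lb hA hB).2 h),
    fun h => Q.hxg ((V.comm_iff S hF hvD lx lg hX hE).2 h),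
    (V.comm_iff S hF hvD lx la hX hA).1 Q.hx.1.2.2.symm, (V.comm_iff S hF hvD lx lb hX hB).1 Q.hx.2.2.2.symm,
    (V.comm_iff S hF hvD lg la hE hA).1 Q.hg.1.2.2.symm, (V.comm_iff S hF hvD lg lb hE hB).1 Q.hg.2.2.2.symm⟩

omit hM in
/-- The members of `quad` next to `v` are the members of its link orthogonal to the four vectors. -/
theorem Quad.perp {a b x g v e : G} (Q : Quad D a b x g) (hv : v ∈ quad D a b x g) (V : Model D v F)
    {A B X E w : Fin 6 → F} (hA : IsPt (V.img (Q.links hv).1) A) (hB : IsPt (V.img (Q.links hv).2.1) B)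
    (hX : IsPt (V.img (Q.links hv).2.2.1) X) (hE : IsPt (V.img (Q.links hv).2.2.2) E) (le : e ∈ link D v)
    (hw : IsPt (V.img le) w) : e ∈ quad D a b x g ↔ Cfsg.hermForm 6 F 2 w A = 0 ∧
      Cfsg.hermForm 6 F 2 w B = 0 ∧ Cfsg.hermForm 6 F 2 w X = 0 ∧ Cfsg.hermForm 6 F 2 w E = 0 := by
  have hvD := hv.1.1.1
  rw [← V.comm_iff S hF hvD le _ hw hA, ← V.comm_iff S hF hvD le _ hw hB, ← V.comm_iff S hF hvD le _ hw hX,
    ← V.comm_iff S hF hvD le _ hw hE]
  exact ⟨fun h => ⟨h.1.1.2.2.symm, h.1.2.2.2.symm, h.2.1, h.2.2⟩,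
    fun ⟨h1, h2, h3, h4⟩ => ⟨⟨⟨le.1, fun e => Q.hab (e ▸ h2), h1.symm⟩, le.1, fun e => Q.hab (e ▸ h1).symm,
      h2.symm⟩, h3, h4⟩⟩

/-- A member of `quad` next to `v` has a partner there not commuting with it. -/
theorem Quad.partner {a b x g v u : G} (Q : Quad D a b x g) (hv : v ∈ quad D a b x g)
    (hu : u ∈ quad D a b x g ∩ link D v) : ∃ u' ∈ quad D a b x g ∩ link D v, ¬ Commute u u' := by
  have hvD := hv.1.1.1
  obtain ⟨V⟩ := hM v hvD
  obtain ⟨A, B, X, E, hA, hB, hX, hE, hAB, hXE, hXA, hXB, hEA, hEB⟩ := Q.frame S hF hv V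
  obtain ⟨U, hU⟩ := V.exists_pt_of_link S hF hvD hu.2
  obtain ⟨hUA, hUB, hUX, hUE⟩ := (Q.perp S hF hv V hA hB hX hE hu.2 hU).1 hu.1
  obtain ⟨z, hz, hp, hzu⟩ := U6.exists_iso_pairing hF ![A, B, X, E] hU.1.2
    (fun i => by fin_cases i; exacts [hUA, hUB, hUX, hUE]) (fun hm => hU.1.1 (by
      obtain ⟨f, hf⟩ := (Submodule.mem_span_range_iff_exists_fun F).1 hm
      rw [Fin.sum_univ_four] at hf
      change f 0 • A + f 1 • B + f 2 • X + f 3 • E = U at hf
      have k := fun w => congrArg (fun y => Cfsg.hermForm 6 F 2 y w) hf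
      simp only [U6.add_left hF, U6.smul_left hF] at k
      have k1 := k B
      have k0 := k A
      have k3 := k X
      have k2 := k E
      have hBA : Cfsg.hermForm 6 F 2 B A ≠ 0 := fun h => hAB ((U6.comm_zero hF).1 h)
      have hEX : Cfsg.hermForm 6 F 2 E X ≠ 0 := fun h => hXE ((U6.comm_zero hF).1 h)
      simp only [hA.1.2, hB.1.2, hX.1.2, hE.1.2, hXA, hXB, hEA, hEB, (U6.comm_zero hF).1 hXA,
        (U6.comm_zero hF).1 hXB, (U6.comm_zero hF).1 hEA, (U6.comm_zero hF).1 hEB, hUA, hUB, hUX, hUE,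
        mul_zero, add_zero, zero_add, mul_eq_zero, hAB, hBA, hXE, hEX, or_false] at k0 k1 k2 k3
      rw [← hf, k0, k1, k2, k3]
      simp))
  obtain ⟨Z, hZ⟩ := U6.exists_pt hF hz
  obtain ⟨e, le, rfl⟩ := V.exists_link_of_pt S hF hvD hZ
  refine ⟨e, ⟨(Q.perp S hF hv V hA hB hX hE le hZ).2 ⟨hp 0, hp 1, hp 2, hp 3⟩, le⟩, fun h => ?_⟩
  have := (V.comm_iff S hF hvD le hu.2 hZ hU).1 h.symm
  rw [hzu] at this
  exact one_ne_zero this

/-- A member of `quad` has a neighbour in it. -/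
theorem Quad.exists_near {a b x g v : G} (Q : Quad D a b x g) (hv : v ∈ quad D a b x g) :
    ∃ u, u ∈ quad D a b x g ∩ link D v := by
  have hvD := hv.1.1.1
  obtain ⟨V⟩ := hM v hvD
  obtain ⟨A, B, X, E, hA, hB, hX, hE, -⟩ := Q.frame S hF hv V
  obtain ⟨z, hz, hp⟩ := U6.exists_iso_perp_of hF ![A, B, X, E] le_rfl
  obtain ⟨Z, hZ⟩ := U6.exists_pt hF hz
  obtain ⟨e, le, rfl⟩ := V.exists_link_of_pt S hF hvD hZ
  exact ⟨e, (Q.perp S hF hv V hA hB hX hE le hZ).2 ⟨hp 0, hp 1, hp 2, hp 3⟩, le⟩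

/-- Two non-commuting neighbours in `quad` and their conjugate are all of the neighbours. -/
theorem Quad.three {a b x g v n n' q : G} (Q : Quad D a b x g) (hv : v ∈ quad D a b x g)
    (hn : n ∈ quad D a b x g ∩ link D v) (hn' : n' ∈ quad D a b x g ∩ link D v) (hnn : ¬ Commute n n')
    (hq : q ∈ quad D a b x g ∩ link D v) : q = n ∨ q = n' ∨ q = n * n' * n := by
  have hvD := hv.1.1.1
  obtain ⟨V⟩ := hM v hvD
  obtain ⟨A, B, X, E, hA, hB, hX, hE, hAB, hXE, hXA, hXB, hEA, hEB⟩ := Q.frame S hF hv V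
  obtain ⟨N, hN⟩ := V.exists_pt_of_link S hF hvD hn.2
  obtain ⟨M, hM'⟩ := V.exists_pt_of_link S hF hvD hn'.2
  obtain ⟨Z, hZ⟩ := V.exists_pt_of_link S hF hvD hq.2
  obtain ⟨nA, nB, nX, nE⟩ := (Q.perp S hF hv V hA hB hX hE hn.2 hN).1 hn.1
  obtain ⟨mA, mB, mX, mE⟩ := (Q.perp S hF hv V hA hB hX hE hn'.2 hM').1 hn'.1
  obtain ⟨zA, zB, zX, zE⟩ := (Q.perp S hF hv V hA hB hX hE hq.2 hZ).1 hq.1
  have hNM : Cfsg.hermForm 6 F 2 N M ≠ 0 := fun h => hnn ((V.comm_iff S hF hvD hn.2 hn'.2 hN hM').2 h)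
  have hMN : Cfsg.hermForm 6 F 2 M N ≠ 0 := fun h => hNM ((U6.comm_zero hF).1 h)
  obtain ⟨al, be, hsum⟩ : ∃ al be : F, Z = al • N + be • M := by
    have key : ∀ {al be : F}, Z + (al • N + be • M) = 0 → Z = al • N + be • M := fun {al be} h => by
      calc Z = Z + (al • N + be • M) + (al • N + be • M) := by rw [add_assoc, U6.vadd_self hF, add_zero]
        _ = _ := by rw [h, zero_add]
    refine ⟨Cfsg.hermForm 6 F 2 Z M / Cfsg.hermForm 6 F 2 N M, Cfsg.hermForm 6 F 2 Z N / Cfsg.hermForm 6 F 2 M N,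
      key ?_⟩
    refine Y332.eq_zero_of_six hF hA.1.2 hB.1.2 hX.1.2 hE.1.2 hN.1.2 hM'.1.2 hAB hXE hNM hXA hXB hEA hEB
      nA nB nX nE mA mB mX mE ?_ ?_ ?_ ?_ ?_ ?_
    all_goals refine (U6.comm_zero hF).1 ?_
    all_goals simp only [U6.add_left hF, U6.smul_left hF, nA, nB, nX, nE, mA, mB, mX, mE, zA, zB, zX, zE,
      hN.1.2, hM'.1.2, mul_zero, add_zero, zero_add]
    · rw [div_mul_cancel₀ _ hMN]; exact U6.add_self hF _
    · rw [div_mul_cancel₀ _ hNM]; exact U6.add_self hF _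
  by_cases hzn : Cfsg.hermForm 6 F 2 Z N = 0
  · refine Or.inl (V.img_inj S hvD hq.2 hn.2 (IsPt.eq_of_smul hF hN hZ (a := al) ?_).symm)
    rw [hsum, U6.add_left hF, U6.smul_left hF, U6.smul_left hF, hN.1.2, mul_zero, zero_add, mul_eq_zero] at hzn
    rw [hsum, hzn.resolve_right hMN, zero_smul, add_zero]
  obtain ⟨t, ht0, ht | ht⟩ := U6.chord_cases hF hN.1 hM'.1 hZ.1 hMN hzn
    (Submodule.mem_span_pair.2 ⟨al, be, hsum.symm⟩)
  · exact Or.inr (Or.inl (V.img_inj S hvD hq.2 hn'.2 (IsPt.eq_of_smul hF hM' hZ ht).symm))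
  · right; right
    obtain ⟨lm, hm⟩ := V.conj_vec S hF hn'.2 hn.2 hM' hN
    exact V.img_inj S hvD hq.2 lm (IsPt.eq_of_smul hF hm hZ ht).symm

/-- There are no triangles in `quad`. -/
theorem Quad.no_triangle {a b x g v u u' : G} (Q : Quad D a b x g) (hv : v ∈ quad D a b x g)
    (hu : u ∈ quad D a b x g ∩ link D v) (hu' : u' ∈ quad D a b x g ∩ link D v) (hne : u ≠ u') :
    ¬ Commute u u' := by
  intro hc
  obtain ⟨w, hw, huw⟩ := Q.partner S hF hM hv hu
  rcases Q.three S hF hM hv hu hw huw hu' with h | h | h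
  · exact hne h.symm
  · exact huw (h ▸ hc)
  · exact S.tt.not_commute_cj_left hu.1.1.1.1 huw (h ▸ hc)

/-- At most three neighbours in `quad`. -/
theorem Quad.near_le {a b x g v : G} (Q : Quad D a b x g) (hv : v ∈ quad D a b x g) :
    (quad D a b x g ∩ link D v).ncard ≤ 3 := by
  classical
  obtain ⟨n, hn⟩ := Q.exists_near S hF hM hv
  obtain ⟨n', hn', hnn⟩ := Q.partner S hF hM hv hn
  refine (Set.ncard_le_ncard (t := ↑({n, n', n * n' * n} : Finset G)) (fun q hq => ?_) (Set.toFinite _)).trans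
    (by rw [Set.ncard_coe_finset]; exact Finset.card_le_three)
  simpa using Q.three S hF hM hv hn hn' hnn hq

end CfsgLib.M22
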