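import Cfsg.Agent.Lib.FischerPair.M22
import Cfsg.Agent.Lib.ThreeTransp.M22Simple
import Cfsg.Agent.Lib.ThreeTransp.M22Y332.Near

/-!
# Groups of type `M(22)`: elements fixing five members of a link in general position
-/

set_option autoImplicit false
set_option linter.unusedSectionVars false

namespace CfsgLib.M22

open CfsgLib.ThreeTransp CfsgLib.SporMisc
open CfsgLib.U6 (IsPt)
open CfsgLib.PSUAut (Isot act)
open CfsgLib.UnitarySpec (psuMk)

variable {G : Type*} [Group G] {D : Set G}
variable [Finite G] (S : Setup D) {F : Type} [Field F] [Fintype F] (hF : Fintype.card F = 2 ^ 2)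
  (hM : ∀ a ∈ D, Nonempty (Model D a F))
include S hF hM

/-- An element centralising `a` and five members of its link with independent points. -/
theorem five_fix {a z : G} (ha : a ∈ D) (A : Model D a F) (hz : Commute z a) (e : Fin 5 → G)
    (le : ∀ i, e i ∈ link D a) (hze : ∀ i, Commute z (e i)) (v : Fin 5 → Fin 6 → F)
    (hv : ∀ i, IsPt (A.img (le i)) (v i)) (li : LinearIndependent F v)
    (conn : ∀ f : Fin 5 → F, (∀ i j, Cfsg.hermForm 6 F 2 (v i) (v j) ≠ 0 → f i = f j) → ∀ i, f i = f 0)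
    {n : Fin 6 → F} (hn : Isot 2 n) (hnv : ∀ i, Cfsg.hermForm 6 F 2 n (v i) = 0) :
    z = 1 ∨ z = a ∨ ∃ nh ∈ link D a, (∀ i, Commute nh (e i)) ∧ (z = nh ∨ z = nh * a) := by
  obtain ⟨Z, hZ⟩ := U6.exists_pt hF hn
  obtain ⟨nh, ln, rfl⟩ := A.exists_link_of_pt S hF ha hZ
  have hmem : z ∈ Subgroup.closure (link D a) := by
    rw [← centralizer_eq S hF hM ha, Subgroup.mem_centralizer_singleton_iff]
    exact hz.eq
  obtain ⟨g, hg, hfix⟩ := exists_lift_fix S hF hM ha A hmem
  choose lam hlam using fun i => hfix (le i) (hv i) (hze i)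
  have hlam0 : lam 0 ≠ 0 := by
    intro h0
    refine (hv 0).1.1 (Y332.eq_zero_of_perp6 hF fun y => ?_)
    rw [← PSUAut.act_form g y (v 0), hlam, h0, zero_smul]
    exact U6.zero_right hF _
  have hall : ∀ i, act g (v i) = lam 0 • v i := fun i => by
    rw [hlam, conn lam (fun i j h => Y332.eigen_eq hF (hlam i) (hlam j) h) i]
  have cent : ∀ y, y ∈ Subgroup.closure (link D a) → (∀ f ∈ link D a, Commute y f) → y = 1 ∨ y = a :=
    fun y hy h => central_cases S hF hM ha A hy ((A.ker _).2 (mem_center_of_commute h))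
  have himg : ∀ {f : G} (lf : f ∈ link D a) {w : Fin 6 → F}, IsPt (A.img lf) w →
      IsPt (A.img (Model.conj_mem S lf ⟨z, hmem⟩)) (act g w) := by
    intro f lf w hw
    have h := hw.conj hF g
    rw [hg, ← A.img_conj S lf ⟨z, hmem⟩] at h
    exact h
  rcases Y332.scalar_or_transvection hF li hlam0 hall hn.1 hnv hn.2 with h | h
  · rcases cent z hmem (fun f lf => by
      obtain ⟨w, hw⟩ := A.exists_pt_of_link S hF ha lf
      have h2 := himg lf hw
      rw [h] at h2
      have e' : z * f * z⁻¹ = f :=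
        (A.img_inj S ha lf (Model.conj_mem S lf ⟨z, hmem⟩) (IsPt.eq_of_smul hF hw h2 rfl)).symm
      exact mul_inv_eq_iff_eq_mul.1 e') with h' | h'
    · exact Or.inl h'
    · exact Or.inr (Or.inl h')
  · refine Or.inr (Or.inr ⟨nh, ln, fun i => (A.comm_iff S hF ha ln (le i) hZ (hv i)).2 (hnv i), ?_⟩)
    rcases cent (nh * z) (mul_mem (Subgroup.subset_closure ln) hmem) (fun f lf => by
      obtain ⟨w, hw⟩ := A.exists_pt_of_link S hF ha lf
      obtain ⟨lm, hm⟩ := A.conj_vec S hF lf ln hw hZ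
      have h2 := himg lf hw
      rw [h] at h2
      have e1 : z * f * z⁻¹ = nh * f * nh :=
        (A.img_inj S ha lm (Model.conj_mem S lf ⟨z, hmem⟩) (IsPt.eq_of_smul hF hm h2 rfl)).symm
      refine mul_inv_eq_iff_eq_mul.1 ?_
      calc nh * z * f * (nh * z)⁻¹ = nh * (z * f * z⁻¹) * nh⁻¹ := by group
        _ = f := by
          rw [e1, S.tt.inv_eq ln.1]
          simp only [mul_assoc, cancel₂ (S.sqd ln.1), S.sqd ln.1, mul_one]) with h' | h'
    · left; rw [← cancel₂ (S.sqd ln.1) z, h', mul_one]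
    · right; rw [← cancel₂ (S.sqd ln.1) z, h']

omit hM in
/-- Scaling the point of a member to product `1` with a given point. -/
theorem norm_pt {a p q : G} (ha : a ∈ D) (A : Model D a F) (lp : p ∈ link D a) (lq : q ∈ link D a)
    {w : Fin 6 → F} (hw : IsPt (A.img lq) w) (hne : ¬ Commute p q) :
    ∃ u, IsPt (A.img lp) u ∧ Cfsg.hermForm 6 F 2 u w = 1 := by
  obtain ⟨u, hu⟩ := A.exists_pt_of_link S hF ha lp
  have h0 : Cfsg.hermForm 6 F 2 u w ≠ 0 := fun h => hne ((A.comm_iff S hF ha lp lq hu hw).2 h)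
  exact ⟨(Cfsg.hermForm 6 F 2 u w)⁻¹ • u, hu.smul hF (inv_ne_zero h0),
    by rw [U6.smul_left hF, inv_mul_cancel₀ h0]⟩

/-- An element centralising seven members with the diagram of `E₇` that no member centralises is trivial. -/
theorem e7_trivial {a b c d e f h z : G} (ha : a ∈ D) (hb : b ∈ D) (hab : ¬ Commute a b)
    (lc : c ∈ link D a) (ld : d ∈ link D a) (le : e ∈ link D a) (lf : f ∈ link D a) (lh : h ∈ link D a)
    (hcd : ¬ Commute c d) (hdh : ¬ Commute d h) (hde : ¬ Commute d e) (hef : ¬ Commute e f)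
    (cce : Commute c e) (ccf : Commute c f) (cch : Commute c h) (cdf : Commute d f) (ceh : Commute e h)
    (cfh : Commute f h) (nch : c ≠ h)
    (hno : ∀ q ∈ D, Commute q a → Commute q b → Commute q c → Commute q d → Commute q e → Commute q f →
      Commute q h → False)
    (za : Commute z a) (zb : Commute z b) (zc : Commute z c) (zd : Commute z d) (ze : Commute z e)
    (zf : Commute z f) (zh : Commute z h) : z = 1 := by
  obtain ⟨A⟩ := hM a ha
  obtain ⟨Dv, hD⟩ := A.exists_pt_of_link S hF ha ld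
  obtain ⟨C, hC, eCD⟩ := norm_pt S hF ha A lc ld hD hcd
  obtain ⟨K, hK, eKD⟩ := norm_pt S hF ha A lh ld hD fun h => hdh h.symm
  obtain ⟨E, hE, eED⟩ := norm_pt S hF ha A le ld hD fun h => hde h.symm
  obtain ⟨Fv, hFv, eFE⟩ := norm_pt S hF ha A lf le hE fun h => hef h.symm
  have z0 := fun {u v : Fin 6 → F} (h : Cfsg.hermForm 6 F 2 u v = 0) => (U6.comm_zero hF).1 h
  have o := fun {u v : Fin 6 → F} (h : Cfsg.hermForm 6 F 2 u v = 1) => U6.comm_one hF h
  have eCE := (A.comm_iff S hF ha lc le hC hE).1 cce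
  have eCF := (A.comm_iff S hF ha lc lf hC hFv).1 ccf
  have eCK := (A.comm_iff S hF ha lc lh hC hK).1 cch
  have eDF := (A.comm_iff S hF ha ld lf hD hFv).1 cdf
  have eEK := (A.comm_iff S hF ha le lh hE hK).1 ceh
  have eFK := (A.comm_iff S hF ha lf lh hFv hK).1 cfh
  have := U6.charTwo hF
  have hn0 : C + K ≠ 0 := fun h0 => nch (A.img_inj S ha lc lh (IsPt.eq_of_smul hF hC hK (a := 1) (by
    rw [one_smul]
    calc K = (C + C) + K := by rw [U6.vadd_self hF, zero_add]
      _ = C + (C + K) := add_assoc _ _ _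
      _ = C := by rw [h0, add_zero])))
  have hnv : ∀ i, Cfsg.hermForm 6 F 2 (C + K) (![C, Dv, E, Fv, K] i) = 0 := by
    intro i
    fin_cases i <;>
      simp [U6.add_left hF, hC.1.2, hK.1.2, eCE, eCF, eCK, z0 eCK, eCD, eKD, z0 eEK, z0 eFK, U6.add_self hF]
  have li : LinearIndependent F ![C, Dv, E, Fv, K] := by
    refine Fintype.linearIndependent_iff.2 fun x hx => ?_
    rw [Fin.sum_univ_five] at hx
    change x 0 • C + x 1 • Dv + x 2 • E + x 3 • Fv + x 4 • K = 0 at hx
    have k := fun w => congrArg (fun y => Cfsg.hermForm 6 F 2 y w) hx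
    simp only [U6.add_left hF, U6.smul_left hF, U6.zero_left hF] at k
    have k1 := k C
    have k2 := k Fv
    have k3 := k E
    have k4 := k Dv
    simp only [hC.1.2, hD.1.2, hE.1.2, hFv.1.2, hK.1.2, eCE, z0 eCE, eCF, z0 eCF, eCK, z0 eCK, eDF, z0 eDF, eEK,
      z0 eEK, eFK, z0 eFK, eCD, o eCD, eKD, o eKD, eED, o eED, eFE, o eFE, mul_zero, mul_one, add_zero,
      zero_add] at k1 k2 k3 k4
    rw [k1, zero_add] at k3
    have h04 : x 4 = x 0 := by
      rw [k2, add_zero] at k4
      exact (CharTwo.add_eq_zero.1 k4).symm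
    rw [k1, k2, k3, h04, zero_smul, zero_smul, zero_smul, add_zero, add_zero, add_zero, ← smul_add,
      smul_eq_zero] at hx
    have h00 := hx.resolve_right hn0
    intro i
    fin_cases i
    exacts [h00, k1, k2, k3, h04.trans h00]
  rcases five_fix S hF hM ha A za ![c, d, e, f, h]
      (fun i => by fin_cases i; exacts [lc, ld, le, lf, lh])
      (fun i => by fin_cases i; exacts [zc, zd, ze, zf, zh]) ![C, Dv, E, Fv, K]
      (fun i => by fin_cases i; exacts [hC, hD, hE, hFv, hK]) li (by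
        intro x hx i
        have p1 := hx 0 1 (by simp [eCD])
        have p2 := hx 2 1 (by simp [eED])
        have p3 := hx 3 2 (by simp [eFE])
        have p4 := hx 4 1 (by simp [eKD])
        fin_cases i
        exacts [rfl, p1.symm, p2.trans p1.symm, p3.trans (p2.trans p1.symm), p4.trans p1.symm])
      (n := C + K) ⟨hn0, by
        simp only [U6.add_left hF, U6.add_right hF, hC.1.2, hK.1.2, eCK, z0 eCK, add_zero]⟩ hnv with
    r | rfl | ⟨nh, ln, hn, r⟩
  · exact r
  · exact absurd zb hab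
  · have c0 := hn 0
    have c1 := hn 1
    have c2 := hn 2
    have c3 := hn 3
    have c4 := hn 4
    rcases r with rfl | rfl
    · exact (hno z ln.1 ln.2.2.symm zb c0 c1 c2 c3 c4).elim
    · exact absurd (S.commute_both ln.1 ha hb ln.2.2.symm ln.2.1 zb.symm).2.symm hab

/-- An element of order dividing three centralising `b` and a path of five members of its link is trivial. -/
theorem path_trivial {b a f e d h i z : G} (hb : b ∈ D) (ha : a ∈ D) (hba : ¬ Commute b a)
    (lf : f ∈ link D b) (le : e ∈ link D b) (ld : d ∈ link D b) (lh : h ∈ link D b) (li' : i ∈ link D b)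
    (hfe : ¬ Commute f e) (hed : ¬ Commute e d) (hdh : ¬ Commute d h) (hhi : ¬ Commute h i)
    (cfd : Commute f d) (cfh : Commute f h) (cfi : Commute f i) (ceh : Commute e h) (cei : Commute e i)
    (cdi : Commute d i) (nfd : f ≠ d) (nfi : f ≠ i) (ndi : d ≠ i)
    (af : f ∈ link D a) (ad : d ∈ link D a) (ai : i ∈ link D a) (h3 : z ^ 3 = 1)
    (zb : Commute z b) (zf : Commute z f) (ze : Commute z e) (zd : Commute z d) (zh : Commute z h)
    (zi : Commute z i) : z = 1 := by
  obtain ⟨A⟩ := hM b hb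
  obtain ⟨Fv, hFv⟩ := A.exists_pt_of_link S hF hb lf
  obtain ⟨E, hE, eEF⟩ := norm_pt S hF hb A le lf hFv fun h => hfe h.symm
  obtain ⟨Dv, hD, eDE⟩ := norm_pt S hF hb A ld le hE fun h => hed h.symm
  obtain ⟨K, hK, eKD⟩ := norm_pt S hF hb A lh ld hD fun h => hdh h.symm
  obtain ⟨I, hI, eIK⟩ := norm_pt S hF hb A li' lh hK fun h => hhi h.symm
  have z0 := fun {u v : Fin 6 → F} (h : Cfsg.hermForm 6 F 2 u v = 0) => (U6.comm_zero hF).1 h
  have o := fun {u v : Fin 6 → F} (h : Cfsg.hermForm 6 F 2 u v = 1) => U6.comm_one hF h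
  have eFD := (A.comm_iff S hF hb lf ld hFv hD).1 cfd
  have eFK := (A.comm_iff S hF hb lf lh hFv hK).1 cfh
  have eFI := (A.comm_iff S hF hb lf li' hFv hI).1 cfi
  have eEK := (A.comm_iff S hF hb le lh hE hK).1 ceh
  have eEI := (A.comm_iff S hF hb le li' hE hI).1 cei
  have eDI := (A.comm_iff S hF hb ld li' hD hI).1 cdi
  have := U6.charTwo hF
  have hn0 : Fv + Dv + I ≠ 0 := by
    intro h0
    refine not_collinear S hF hM hb ha hba (show f ∈ FischerPair.common D b a from ⟨lf, af⟩)
      (show d ∈ FischerPair.common D b a from ⟨ld, ad⟩) (show i ∈ FischerPair.common D b a from ⟨li', ai⟩)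
      cfd cfi cdi nfd nfi ndi A hFv hD hI ?_
    refine Submodule.mem_span_pair.2 ⟨1, 1, ?_⟩
    rw [one_smul, one_smul]
    calc Fv + Dv = Fv + Dv + (I + I) := by rw [U6.vadd_self hF, add_zero]
      _ = (Fv + Dv + I) + I := by abel
      _ = I := by rw [h0, zero_add]
  have li : LinearIndependent F ![Fv, E, Dv, K, I] := by
    refine Fintype.linearIndependent_iff.2 fun x hx => ?_
    rw [Fin.sum_univ_five] at hx
    change x 0 • Fv + x 1 • E + x 2 • Dv + x 3 • K + x 4 • I = 0 at hx
    have k := fun w => congrArg (fun y => Cfsg.hermForm 6 F 2 y w) hx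
    simp only [U6.add_left hF, U6.smul_left hF, U6.zero_left hF] at k
    have k1 := k Fv
    have k3 := k I
    have k2 := k E
    have k4 := k K
    simp only [hFv.1.2, hD.1.2, hE.1.2, hI.1.2, hK.1.2, eFD, z0 eFD, eFK, z0 eFK, eFI, z0 eFI, eEK, z0 eEK, eEI,
      z0 eEI, eDI, z0 eDI, eEF, o eEF, eDE, o eDE, eKD, o eKD, eIK, o eIK, mul_zero, mul_one, add_zero,
      zero_add] at k1 k2 k3 k4
    have h02 : x 2 = x 0 := (CharTwo.add_eq_zero.1 k2).symm
    have h04 : x 4 = x 0 := (CharTwo.add_eq_zero.1 k4).symm.trans h02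
    rw [k1, k3, h02, h04, zero_smul, zero_smul, add_zero, add_zero, ← smul_add, ← smul_add, smul_eq_zero] at hx
    have h00 := hx.resolve_right hn0
    intro i
    fin_cases i
    exacts [h00, k1, h02.trans h00, k3, h04.trans h00]
  have hz3 : ∀ {y : G}, y * y = 1 → z = y → z = 1 := fun {y} hy e' => by
    subst e'
    calc z = z * (z * z) := by rw [hy, mul_one]
      _ = z ^ 3 := by rw [pow_succ, pow_two, mul_assoc]
      _ = 1 := h3
  rcases five_fix S hF hM hb A zb ![f, e, d, h, i]
      (fun j => by fin_cases j; exacts [lf, le, ld, lh, li'])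
      (fun j => by fin_cases j; exacts [zf, ze, zd, zh, zi]) ![Fv, E, Dv, K, I]
      (fun j => by fin_cases j; exacts [hFv, hE, hD, hK, hI]) li (by
        intro x hx j
        have p1 := hx 1 0 (by simp [eEF])
        have p2 := hx 2 1 (by simp [eDE])
        have p3 := hx 3 2 (by simp [eKD])
        have p4 := hx 4 3 (by simp [eIK])
        fin_cases j
        exacts [rfl, p1, p2.trans p1, p3.trans (p2.trans p1), p4.trans (p3.trans (p2.trans p1))])
      (n := Fv + Dv + I) ⟨hn0, by
        simp only [U6.add_left hF, U6.add_right hF, hFv.1.2, hD.1.2, hI.1.2, eFD, z0 eFD, eFI, z0 eFI, eDI,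
          z0 eDI, add_zero]⟩ (fun j => by
        fin_cases j <;>
          simp [U6.add_left hF, hFv.1.2, hD.1.2, hI.1.2, eFD, z0 eFD, eFK, eFI, z0 eFI, z0 eEI, eDI, z0 eDI,
            eDE, o eEF, o eKD, eIK, U6.add_self hF]) with
    r | r | ⟨nh, ln, -, r | r⟩
  · exact r
  · exact hz3 (S.sqd hb) r
  · exact hz3 (S.sqd ln.1) r
  · refine hz3 (y := nh * b) ?_ r
    rw [← pow_two, (ln.2.2.symm : Commute nh b).mul_pow, pow_two, pow_two, S.sqd ln.1, S.sqd hb, mul_one]

end CfsgLib.M22
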