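import Cfsg.Agent.Lib.ThreeTransp.M22Y332.Config
import Cfsg.Agent.Lib.ThreeTransp.M22Y332.Fix

/-!
# Groups of type `M(22)`: the further relations of the presentation of `Fi₂₂`
-/

set_option autoImplicit false
set_option linter.unusedSectionVars false

namespace CfsgLib.M22

open CfsgLib.ThreeTransp CfsgLib.SporMisc
open CfsgLib.Y332 (isEdge edges prd prd_cons prd_nil prd_refl refl theta6 theta7 refX refY)

variable {G : Type*} [Group G] {D : Set G} {gen : ℕ → G}

theorem Config.comm (C : Config D gen) {p q : ℕ} (hp : p < 9) (hq : q < 9)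
    (h : isEdge edges p q = false) : Commute (gen p) (gen q) :=
  C.cox.comm p q hp hq h

theorem exists_sep : ∀ p, p < 9 → ∀ q, q < 9 → p ≠ q → ∃ r, r < 9 ∧
    (isEdge edges p r = true ∧ isEdge edges q r = false ∨ isEdge edges q r = true ∧ isEdge edges p r = false) := by
  decide +kernel

theorem Config.ne (C : Config D gen) {p q : ℕ} (hp : p < 9) (hq : q < 9) (hne : p ≠ q) : gen p ≠ gen q := by
  intro e
  obtain ⟨r, hr, ⟨h1, h2⟩ | ⟨h1, h2⟩⟩ := exists_sep p hp q hq hne
  · exact C.nc p r hp hr h1 (e ▸ C.comm hq hr h2)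
  · exact C.nc q r hq hr h1 (e ▸ C.comm hp hr h2)

theorem Config.mem_link (C : Config D gen) {p q : ℕ} (hp : p < 9) (hq : q < 9)
    (h : isEdge edges p q = false) (hne : p ≠ q) : gen q ∈ link D (gen p) :=
  ⟨C.mem q hq, (C.ne hp hq hne).symm, C.comm hp hq h⟩

variable [Finite G] (S : Setup D) {F : Type} [Field F] [Fintype F] (hF : Fintype.card F = 2 ^ 2)
  (hM : ∀ a ∈ D, Nonempty (Model D a F))
include S hF hM

theorem Config.relW7 (C : Config D gen) : prd gen Y332.w7 ^ 9 = 1 := by
  have c := fun {s : ℕ} (hs : s ∈ [0, 1, 2, 3, 4, 5, 7]) => (Y332.w7_central C.cox hs).symm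
  exact e7_trivial S hF hM (C.mem 0 (by decide)) (C.mem 1 (by decide)) (C.nc 0 1 (by decide) (by decide) rfl)
    (C.mem_link (p := 0) (q := 2) (by decide) (by decide) rfl (by decide))
    (C.mem_link (p := 0) (q := 3) (by decide) (by decide) rfl (by decide))
    (C.mem_link (p := 0) (q := 4) (by decide) (by decide) rfl (by decide))
    (C.mem_link (p := 0) (q := 5) (by decide) (by decide) rfl (by decide))
    (C.mem_link (p := 0) (q := 7) (by decide) (by decide) rfl (by decide))
    (C.nc 2 3 (by decide) (by decide) rfl) (C.nc 3 7 (by decide) (by decide) rfl)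
    (C.nc 3 4 (by decide) (by decide) rfl) (C.nc 4 5 (by decide) (by decide) rfl)
    (C.comm (by decide) (by decide) rfl) (C.comm (by decide) (by decide) rfl)
    (C.comm (by decide) (by decide) rfl) (C.comm (by decide) (by decide) rfl)
    (C.comm (by decide) (by decide) rfl) (C.comm (by decide) (by decide) rfl)
    (C.ne (p := 2) (q := 7) (by decide) (by decide) (by decide))
    C.noABCDEFH (c (by decide)) (c (by decide)) (c (by decide)) (c (by decide)) (c (by decide)) (c (by decide))
    (c (by decide))

theorem Config.relV7 (C : Config D gen) : prd gen Y332.v7 ^ 9 = 1 := by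
  have c := fun {s : ℕ} (hs : s ∈ [1, 2, 3, 4, 5, 6, 7]) => (Y332.v7_central C.cox hs).symm
  refine e7_trivial S hF hM (a := gen 6) (b := gen 5) (c := gen 4) (d := gen 3) (e := gen 2) (f := gen 1)
    (h := gen 7) (C.mem 6 (by decide)) (C.mem 5 (by decide)) (C.nc 6 5 (by decide) (by decide) rfl)
    ?_ ?_ ?_ ?_ ?_
    (C.nc 4 3 (by decide) (by decide) rfl) (C.nc 3 7 (by decide) (by decide) rfl)
    (C.nc 3 2 (by decide) (by decide) rfl) (C.nc 2 1 (by decide) (by decide) rfl)
    (C.comm (by decide) (by decide) rfl) (C.comm (by decide) (by decide) rfl)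
    (C.comm (by decide) (by decide) rfl) (C.comm (by decide) (by decide) rfl)
    (C.comm (by decide) (by decide) rfl) (C.comm (by decide) (by decide) rfl)
    (C.ne (p := 4) (q := 7) (by decide) (by decide) (by decide))
    ?_ (c (by decide)) (c (by decide)) (c (by decide)) (c (by decide)) (c (by decide)) (c (by decide))
    (c (by decide))
  · exact C.mem_link (p := 6) (q := 4) (by decide) (by decide) rfl (by decide)
  · exact C.mem_link (p := 6) (q := 3) (by decide) (by decide) rfl (by decide)
  · exact C.mem_link (p := 6) (q := 2) (by decide) (by decide) rfl (by decide)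
  · exact C.mem_link (p := 6) (q := 1) (by decide) (by decide) rfl (by decide)
  · exact C.mem_link (p := 6) (q := 7) (by decide) (by decide) rfl (by decide)
  · intro q hq qg qf qe qd qc qb qh
    by_cases qa : Commute (gen 0) q
    · exact C.noABCDEFH q hq qa.symm qb qc qd qe qf qh
    · exact C.noCEG q hq qa qc qe qg

omit hF hM in
theorem Config.conj_mem (C : Config D gen) {x : List ℕ} (hx : ∀ z ∈ x, z < 9) {k : ℕ} (hk : k < 9) :
    prd gen (refl x k) ∈ D := by
  rw [prd_refl C.cox hx]
  exact S.tt.conj _ _ (C.mem k hk)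

omit hF hM in
theorem Config.eq_of_braid (C : Config D gen) {p q : G} (hp : p ∈ D) (hq : q ∈ D)
    (h : p * q * p = q * p * q) (hc : Commute p q) : p = q := by
  have e1 : p * q * p = q := by rw [hc.eq, mul_assoc, S.sqd hp, mul_one]
  have e2 : q * p * q = p := by rw [← hc.eq, mul_assoc, S.sqd hq, mul_one]
  rw [← e2, ← h, e1]

/-- The highest root reflection of the first `E₆` does not commute with `i`. -/
theorem Config.theta6_nc (C : Config D gen) : ¬ Commute (gen 8) (theta6 gen) := by
  intro hc
  have hu : Commute (gen 8) (prd gen Y332.uW) := by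
    simp only [Y332.uW, prd_cons, prd_nil]
    have k : ∀ s, s ∈ [0, 1, 2, 3, 4, 5] → Commute (gen 8) (gen s) := by
      intro s hs
      simp only [List.mem_cons, List.not_mem_nil, or_false] at hs
      rcases hs with rfl | rfl | rfl | rfl | rfl | rfl <;> exact C.comm (by decide) (by decide) rfl
    repeat'
      first
        | exact Commute.one_right _
        | refine Commute.mul_right (k _ (by decide)) ?_
  have h7 : Commute (gen 8) (theta7 gen) := (hu.mul_right hc).mul_right hu.inv_right
  have hD7 : theta7 gen ∈ D := by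
    rw [Y332.theta7_eq C.cox]
    exact C.conj_mem S (by decide) (by decide)
  have c := fun {s : ℕ} (hs : s ∈ [0, 1, 2, 3, 4, 7]) => (Y332.theta7_commute C.cox hs).symm
  rcases C.six _ hD7 (c (by decide)) (c (by decide)) (c (by decide)) (c (by decide)) (c (by decide))
    (c (by decide)) with h | h
  swap
  · exact h h7.symm
  -- the product of the seven orthogonal reflections is trivial
  have h1 := Y332.w7_decomp C.cox
  rw [C.relW7 S hF hM, h] at h1
  have hX : refX gen ∈ D := C.conj_mem S (by decide) (by decide)
  have hY : refY gen ∈ D := C.conj_mem S (by decide) (by decide)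
  have cX := Y332.refX_commute C.cox
  have cY := Y332.refY_commute C.cox
  have nXa : refX gen ≠ gen 0 := fun e => by
    have hb := Y332.refX_braid C.cox
    rw [e] at hb
    exact C.ne (p := 0) (q := 3) (by decide) (by decide) (by decide)
      (C.eq_of_braid S (C.mem 0 (by decide)) (C.mem 3 (by decide)) hb (C.comm (by decide) (by decide) rfl))
  have nYa : refY gen ≠ gen 0 := fun e => by
    have hb := Y332.refY_braid C.cox
    rw [e] at hb
    exact C.ne (p := 0) (q := 5) (by decide) (by decide) (by decide)
      (C.eq_of_braid S (C.mem 0 (by decide)) (C.mem 5 (by decide)) hb (C.comm (by decide) (by decide) rfl))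
  have nXY : refY gen ≠ refX gen := fun e => by
    have hX3 : refX gen = gen 3 := C.eq_of_braid S hX (C.mem 3 (by decide)) (Y332.refX_braid C.cox)
      (e ▸ (Y332.refY_commute_d C.cox).symm)
    have hb := Y332.refY_braid C.cox
    rw [e, hX3] at hb
    exact C.ne (p := 3) (q := 5) (by decide) (by decide) (by decide)
      (C.eq_of_braid S (C.mem 3 (by decide)) (C.mem 5 (by decide)) hb (C.comm (by decide) (by decide) rfl))
  obtain ⟨w, lw, wX, wY, hw⟩ := C.moved (refX gen) (refY gen) ⟨hX, nXa, cX⟩
    ⟨⟨hY, nYa, cY⟩, hY, nXY, Y332.refX_refY C.cox⟩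
  refine hw ?_
  have e : gen 2 * gen 4 * gen 7 * gen 6 = (gen 0)⁻¹ * (refX gen * refY gen)⁻¹ := by
    calc gen 2 * gen 4 * gen 7 * gen 6 = (gen 0)⁻¹ *
          (gen 0 * gen 2 * gen 4 * gen 7 * gen 6 * refX gen * refY gen) * (refX gen * refY gen)⁻¹ := by group
      _ = _ := by rw [← h1, mul_one]
  rw [e]
  exact (lw.2.2.symm.inv_right).mul_right (wX.mul_right wY).inv_right

theorem Config.relSpider (C : Config D gen) : prd gen Y332.spW ^ 10 = 1 := by
  have hD6 : theta6 gen ∈ D := C.conj_mem S (by decide) (by decide)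
  have h8 := C.mem 8 (by decide)
  have h3 : (gen 8 * theta6 gen) ^ 3 = 1 :=
    pow_three_eq_one (S.sqd h8) (S.sqd hD6) (S.tt.braid h8 hD6 (C.theta6_nc S hF hM))
  have c := fun {s : ℕ} (hs : s ∈ [1, 2, 3, 4, 5, 7, 8]) => (Y332.spider_central C.cox h3 hs).symm
  exact path_trivial S hF hM (C.mem 1 (by decide)) (C.mem 0 (by decide))
    (C.nc 1 0 (by decide) (by decide) rfl)
    (C.mem_link (p := 1) (q := 5) (by decide) (by decide) rfl (by decide))
    (C.mem_link (p := 1) (q := 4) (by decide) (by decide) rfl (by decide))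
    (C.mem_link (p := 1) (q := 3) (by decide) (by decide) rfl (by decide))
    (C.mem_link (p := 1) (q := 7) (by decide) (by decide) rfl (by decide))
    (C.mem_link (p := 1) (q := 8) (by decide) (by decide) rfl (by decide))
    (C.nc 5 4 (by decide) (by decide) rfl) (C.nc 4 3 (by decide) (by decide) rfl)
    (C.nc 3 7 (by decide) (by decide) rfl) (C.nc 7 8 (by decide) (by decide) rfl)
    (C.comm (by decide) (by decide) rfl) (C.comm (by decide) (by decide) rfl)
    (C.comm (by decide) (by decide) rfl) (C.comm (by decide) (by decide) rfl)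
    (C.comm (by decide) (by decide) rfl) (C.comm (by decide) (by decide) rfl)
    (C.ne (p := 5) (q := 3) (by decide) (by decide) (by decide))
    (C.ne (p := 5) (q := 8) (by decide) (by decide) (by decide))
    (C.ne (p := 3) (q := 8) (by decide) (by decide) (by decide))
    (C.mem_link (p := 0) (q := 5) (by decide) (by decide) rfl (by decide))
    (C.mem_link (p := 0) (q := 3) (by decide) (by decide) rfl (by decide))
    (C.mem_link (p := 0) (q := 8) (by decide) (by decide) rfl (by decide))
    (Y332.spider_cube C.cox h3) (c (by decide)) (c (by decide)) (c (by decide)) (c (by decide)) (c (by decide))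
    (c (by decide))

end CfsgLib.M22
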