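import Mathlib.Algebra.Group.Basic
import Mathlib.Data.List.Basic

/-!
# Rewriting words in a Coxeter group

A certificate is a list of moves: delete a square, interchange two commuting letters, apply a braid.  Each
move keeps the value of the word in any group in which the generators satisfy the relations.
-/

set_option autoImplicit false

namespace CfsgLib.Y332

variable {G : Type*} [Group G]

/-- The value of a word. -/
def prd (gen : ℕ → G) : List ℕ → G
  | [] => 1
  | x :: l => gen x * prd gen l

theorem prd_nil (gen : ℕ → G) : prd gen [] = 1 := rfl

theorem prd_cons (gen : ℕ → G) (x : ℕ) (l : List ℕ) : prd gen (x :: l) = gen x * prd gen l := rfl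

theorem prd_append (gen : ℕ → G) (u v : List ℕ) : prd gen (u ++ v) = prd gen u * prd gen v := by
  induction u with
  | nil => rw [List.nil_append, prd_nil, one_mul]
  | cons x l ih => rw [List.cons_append, prd_cons, prd_cons, ih, mul_assoc]

/-- Edges joining two letters. -/
def isEdge (E : List (ℕ × ℕ)) (x y : ℕ) : Bool :=
  E.any fun p => (Nat.beq p.1 x && Nat.beq p.2 y) || (Nat.beq p.1 y && Nat.beq p.2 x)

/-- The relations of the Coxeter diagram with nodes below `n` and edges `E`, all labelled `3`. -/
structure Sat (n : ℕ) (E : List (ℕ × ℕ)) (gen : ℕ → G) : Prop where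
  sq : ∀ x, x < n → gen x * gen x = 1
  comm : ∀ x y, x < n → y < n → isEdge E x y = false → gen x * gen y = gen y * gen x
  braid : ∀ x y, x < n → y < n → isEdge E x y = true → gen x * gen y * gen x = gen y * gen x * gen y

/-- One move at the head of a word. -/
def localMove (n : ℕ) (E : List (ℕ × ℕ)) : ℕ → List ℕ → Option (List ℕ)
  | 0, x :: y :: r => if Nat.blt x n && Nat.beq x y then some r else none
  | 1, x :: y :: r =>
    if Nat.blt x n && Nat.blt y n && !isEdge E x y then some (y :: x :: r) else none
  | 2, x :: y :: z :: r =>
    if Nat.blt x n && Nat.blt y n && Nat.beq x z && isEdge E x y then some (y :: x :: y :: r) else none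
  | _, _ => none

/-- A move at position `p`. -/
def moveAt (n : ℕ) (E : List (ℕ × ℕ)) (k : ℕ) : List ℕ → ℕ → Option (List ℕ)
  | [], _ => none
  | x :: l, p => if Nat.beq p 0 then localMove n E k (x :: l) else
    match moveAt n E k l (p - 1) with
    | none => none
    | some l' => some (x :: l')

/-- A list of moves, encoded as four times the position plus the kind. -/
def run (n : ℕ) (E : List (ℕ × ℕ)) : List ℕ → List ℕ → Option (List ℕ)
  | [], l => some l
  | m :: ms, l =>
    match moveAt n E (m % 4) l (m / 4) with
    | none => none
    | some l' => run n E ms l'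

/-- The moves take the word to the empty word. -/
def checks (n : ℕ) (E : List (ℕ × ℕ)) (ms l : List ℕ) : Bool :=
  match run n E ms l with
  | some [] => true
  | _ => false

variable {n : ℕ} {E : List (ℕ × ℕ)} {gen : ℕ → G}

theorem localMove_sound (H : Sat n E gen) {k : ℕ} {l l' : List ℕ} (h : localMove n E k l = some l') :
    prd gen l = prd gen l' := by
  match k, l, h with
  | 0, x :: y :: r, h =>
    simp only [localMove] at h
    split at h
    · next hc =>
      simp only [Bool.and_eq_true, Nat.blt_eq, Nat.beq_eq] at hc
      obtain ⟨hx, rfl⟩ := hc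
      rw [Option.some.injEq] at h
      subst h
      rw [prd_cons, prd_cons, ← mul_assoc, H.sq x hx, one_mul]
    · exact absurd h (by simp)
  | 1, x :: y :: r, h =>
    simp only [localMove] at h
    split at h
    · next hc =>
      simp only [Bool.and_eq_true, Nat.blt_eq, Bool.not_eq_true'] at hc
      obtain ⟨⟨hx, hy⟩, he⟩ := hc
      rw [Option.some.injEq] at h
      subst h
      rw [prd_cons, prd_cons, prd_cons, prd_cons, ← mul_assoc, H.comm x y hx hy he, mul_assoc]
    · exact absurd h (by simp)
  | 2, x :: y :: z :: r, h =>
    simp only [localMove] at h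
    split at h
    · next hc =>
      simp only [Bool.and_eq_true, Nat.blt_eq, Nat.beq_eq] at hc
      obtain ⟨⟨⟨hx, hy⟩, rfl⟩, he⟩ := hc
      rw [Option.some.injEq] at h
      subst h
      simp only [prd_cons, ← mul_assoc, H.braid x y hx hy he]
    · exact absurd h (by simp)
  | 0, [], h => simp [localMove] at h
  | 0, [_], h => simp [localMove] at h
  | 1, [], h => simp [localMove] at h
  | 1, [_], h => simp [localMove] at h
  | 2, [], h => simp [localMove] at h
  | 2, [_], h => simp [localMove] at h
  | 2, [_, _], h => simp [localMove] at h
  | k + 3, l, h => simp [localMove] at h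

theorem moveAt_sound (H : Sat n E gen) {k : ℕ} : ∀ {l : List ℕ} {p : ℕ} {l' : List ℕ},
    moveAt n E k l p = some l' → prd gen l = prd gen l'
  | [], _, _, h => by simp [moveAt] at h
  | x :: l, p, l', h => by
    simp only [moveAt] at h
    split at h
    · exact localMove_sound H h
    · cases hm : moveAt n E k l (p - 1) with
      | none => rw [hm] at h; simp at h
      | some l'' =>
        rw [hm] at h
        simp only [Option.some.injEq] at h
        subst h
        rw [prd_cons, prd_cons, moveAt_sound H hm]

theorem run_sound (H : Sat n E gen) : ∀ {ms l l' : List ℕ}, run n E ms l = some l' → prd gen l = prd gen l'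
  | [], l, l', h => by
    simp only [run, Option.some.injEq] at h
    rw [h]
  | m :: ms, l, l', h => by
    simp only [run] at h
    cases hm : moveAt n E (m % 4) l (m / 4) with
    | none => rw [hm] at h; simp at h
    | some l'' =>
      rw [hm] at h
      exact (moveAt_sound H hm).trans (run_sound H h)

theorem checks_sound (H : Sat n E gen) {ms l : List ℕ} (h : checks n E ms l = true) : prd gen l = 1 := by
  unfold checks at h
  cases hr : run n E ms l with
  | none => rw [hr] at h; simp at h
  | some r =>
    rw [hr] at h
    match r, hr, h with
    | [], hr, _ => exact (run_sound H hr).trans (prd_nil gen)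
    | _ :: _, _, h => simp at h

theorem prd_reverse (H : Sat n E gen) : ∀ {l : List ℕ}, (∀ x ∈ l, x < n) →
    prd gen l.reverse = (prd gen l)⁻¹
  | [], _ => by rw [List.reverse_nil, prd_nil, inv_one]
  | x :: l, h => by
    rw [List.reverse_cons, prd_append, prd_reverse H (fun y hy => h y (List.mem_cons_of_mem _ hy)),
      prd_cons, prd_cons, prd_nil, mul_one, mul_inv_rev,
      inv_eq_of_mul_eq_one_right (H.sq x (h x List.mem_cons_self))]

end CfsgLib.Y332
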